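/-
Klinger--Mason: elementary tools.  Elementary abelian subgroups given elementwise, cores of
normalizers as subgroups of the ambient group, faithfulness, an eigenvector lemma, and the
rank inequality.
-/
import Cfsg.Agent.Lib.Coprime.Generation2
import Cfsg.Agent.Lib.Coprime.Eigen
import Cfsg.Agent.Lib.Core.Basic
import Cfsg.Prelude

set_option autoImplicit false
open scoped commutatorElement Pointwise

namespace Cfsg.Agent.Lib.KlingerMason

open Cfsg Subgroup
open Cfsg.Agent.Lib.Coprime.Action Cfsg.Agent.Lib.Coprime.Generation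

variable {G : Type*} [Group G]

/-- Elementary abelian subgroups, elementwise. -/
structure EA (q : ℕ) (A : Subgroup G) : Prop where
  comm : ∀ a ∈ A, ∀ b ∈ A, a * b = b * a
  pow : ∀ a ∈ A, a ^ q = 1

theorem EA.mono {q : ℕ} {A B : Subgroup G} (h : EA q B) (hAB : A ≤ B) : EA q A :=
  ⟨fun a ha b hb => h.comm a (hAB ha) b (hAB hb), fun a ha => h.pow a (hAB ha)⟩

theorem EA.isPGroup {q : ℕ} {A : Subgroup G} (h : EA q A) : IsPGroup q A := by
  intro a
  refine ⟨1, ?_⟩
  rw [pow_one]
  exact Subtype.ext (by simpa using h.pow a a.2)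

theorem EA.bot (q : ℕ) : EA q (⊥ : Subgroup G) :=
  ⟨fun a ha b hb => by
      rw [Subgroup.mem_bot] at ha hb; rw [ha, hb],
    fun a ha => by rw [Subgroup.mem_bot] at ha; rw [ha, one_pow]⟩

theorem EA.exists_card {q : ℕ} [Fact q.Prime] [Finite G] {A : Subgroup G} (h : EA q A) :
    ∃ n, Nat.card A = q ^ n :=
  IsPGroup.iff_card.mp h.isPGroup

theorem inf_zpowers_eq_bot {q : ℕ} [Fact q.Prime] {E : Subgroup G} {y : G}
    (hy : orderOf y = q) (hyE : y ∉ E) : E ⊓ zpowers y = ⊥ := by
  have hq : q.Prime := Fact.out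
  rw [eq_bot_iff]
  intro z hz
  rw [Subgroup.mem_bot]
  by_contra hz1
  obtain ⟨hzE, k, rfl⟩ := hz
  apply hyE
  -- `k` is prime to `q`
  have hk : IsCoprime k (q : ℤ) := by
    have : ¬ (q : ℤ) ∣ k := by
      intro hd
      apply hz1
      show y ^ k = 1
      rw [← orderOf_dvd_iff_zpow_eq_one, hy]
      exact hd
    exact (Int.isCoprime_iff_gcd_eq_one.mpr (by
      rw [Int.gcd_comm]
      exact (Nat.Coprime.symm (by
        have h2 : ¬ q ∣ k.natAbs := by
          intro hd
          exact this (Int.natCast_dvd.mpr hd)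
        exact ((Nat.Prime.coprime_iff_not_dvd hq).mpr h2).symm))))
  obtain ⟨a, b, hab⟩ := hk
  have e : y = (y ^ k) ^ a := by
    have h1 : y ^ (a * k + b * (q : ℤ)) = y := by rw [hab, zpow_one]
    rw [zpow_add, zpow_mul, zpow_mul] at h1
    have h2 : y ^ (q : ℤ) = 1 := by
      rw [zpow_natCast, ← hy, pow_orderOf_eq_one]
    have h3 : (y ^ b) ^ (q : ℤ) = 1 := by
      rw [← zpow_mul, mul_comm, zpow_mul, h2, one_zpow]
    rw [h3, mul_one] at h1
    rw [← zpow_mul, mul_comm, zpow_mul] at h1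
    exact h1.symm
  rw [e]
  exact E.zpow_mem hzE a

/-- Extension of an elementary abelian group by a further element. -/
theorem EA.sup_zpowers {q : ℕ} [Fact q.Prime] [Finite G] {E : Subgroup G} {y : G} (hE : EA q E)
    (hy : y ^ q = 1) (hyE : y ∉ E) (hc : ∀ e ∈ E, y * e = e * y) :
    EA q (E ⊔ zpowers y) ∧ Nat.card ↥(E ⊔ zpowers y) = Nat.card E * q := by
  have hq : q.Prime := Fact.out
  have hy1 : y ≠ 1 := fun h => hyE (h ▸ E.one_mem)
  have hord : orderOf y = q := orderOf_eq_prime hy hy1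
  have hn : zpowers y ≤ normalizer (E : Set G) := by
    rw [Subgroup.le_normalizer_iff]
    rintro _ ⟨k, rfl⟩ e he
    have hc' : Commute (y ^ k) e := Commute.zpow_left (hc e he) k
    show y ^ k * e * (y ^ k)⁻¹ ∈ E
    rw [hc'.eq, mul_assoc, mul_inv_cancel, mul_one]
    exact he
  have hmem : ∀ x ∈ E ⊔ zpowers y, ∃ e ∈ E, ∃ k : ℤ, x = e * y ^ k := by
    intro x hx
    obtain ⟨e, he, a, ⟨k, rfl⟩, rfl⟩ := exists_mul_of_mem_sup hn hx
    exact ⟨e, he, k, rfl⟩
  refine ⟨⟨?_, ?_⟩, ?_⟩
  · intro a ha b hb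
    obtain ⟨e, he, k, rfl⟩ := hmem a ha
    obtain ⟨e', he', k', rfl⟩ := hmem b hb
    have h1 : Commute (y ^ k) e' := Commute.zpow_left (hc e' he') k
    have h2 : Commute (y ^ k') e := Commute.zpow_left (hc e he) k'
    have h3 : Commute (y ^ k) (y ^ k') := (Commute.refl y).zpow_zpow k k'
    calc e * y ^ k * (e' * y ^ k') = e * (y ^ k * e') * y ^ k' := by group
      _ = e * (e' * y ^ k) * y ^ k' := by rw [h1.eq]
      _ = (e * e') * (y ^ k * y ^ k') := by group
      _ = (e' * e) * (y ^ k' * y ^ k) := by rw [hE.comm e he e' he', h3.eq]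
      _ = e' * (e * y ^ k') * y ^ k := by group
      _ = e' * (y ^ k' * e) * y ^ k := by rw [h2.eq]
      _ = e' * y ^ k' * (e * y ^ k) := by group
  · intro a ha
    obtain ⟨e, he, k, rfl⟩ := hmem a ha
    have h1 : Commute e (y ^ k) := (Commute.zpow_left (hc e he) k).symm
    rw [h1.mul_pow, hE.pow e he, one_mul, ← zpow_natCast, ← zpow_mul, mul_comm, zpow_mul,
      zpow_natCast, hy, one_zpow]
  · rw [← card_sup_of_le_normalizer hn (inf_zpowers_eq_bot hord hyE), Nat.card_zpowers, hord]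

/-- The elements of `E ⊔ ⟨t⟩` with `t` an involution commuting with `E`. -/
theorem mem_sup_zpowers_invol {E : Subgroup G} {t : G} (ht : t ^ 2 = 1)
    (hc : ∀ e ∈ E, t * e = e * t) {x : G} (hx : x ∈ E ⊔ zpowers t) : x ∈ E ∨ x * t ∈ E := by
  have hn : zpowers t ≤ normalizer (E : Set G) := by
    rw [Subgroup.le_normalizer_iff]
    rintro _ ⟨k, rfl⟩ e he
    have hc' : Commute (t ^ k) e := Commute.zpow_left (hc e he) k
    show t ^ k * e * (t ^ k)⁻¹ ∈ E
    rw [hc'.eq, mul_assoc, mul_inv_cancel, mul_one]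
    exact he
  obtain ⟨e, he, a, ⟨k, rfl⟩, rfl⟩ := exists_mul_of_mem_sup hn hx
  have htt : t * t = 1 := by rw [← pow_two, ht]
  have hk : ∀ k : ℤ, t ^ k = 1 ∨ t ^ k = t := by
    intro k
    rcases Int.even_or_odd' k with ⟨m, rfl | rfl⟩
    · left
      rw [zpow_mul, zpow_ofNat, ht, one_zpow]
    · right
      rw [zpow_add, zpow_mul, zpow_ofNat, ht, one_zpow, one_mul, zpow_one]
  rcases hk k with h | h
  · left
    show e * t ^ k ∈ E
    rw [h, mul_one]
    exact he
  · right
    show e * t ^ k * t ∈ E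
    rw [h, mul_assoc, htt, mul_one]
    exact he

theorem mem_zpowers_invol {t x : G} (ht : t ^ 2 = 1) (hx : x ∈ zpowers t) : x = 1 ∨ x = t := by
  have hk : ∀ k : ℤ, t ^ k = 1 ∨ t ^ k = t := by
    intro k
    rcases Int.even_or_odd' k with ⟨m, rfl | rfl⟩
    · left
      rw [zpow_mul, zpow_ofNat, ht, one_zpow]
    · right
      rw [zpow_add, zpow_mul, zpow_ofNat, ht, one_zpow, one_mul, zpow_one]
  obtain ⟨k, rfl⟩ := hx
  exact hk k

/-- A subgroup of index 2 in an elementary abelian group given by an eigenvalue. -/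
theorem card_eigen {W : Subgroup G} [Finite G] (hW : EA 2 W) {w y : G} (hw : w ∈ W)
    (hinv : w * y * w⁻¹ = y⁻¹) (hy : y ≠ y⁻¹)
    (heig : ∀ u ∈ W, u * y * u⁻¹ = y ∨ u * y * u⁻¹ = y⁻¹) :
    Nat.card W = Nat.card ↥(W ⊓ centralizer ({y} : Set G)) * 2 := by
  have : Fact (Nat.Prime 2) := ⟨Nat.prime_two⟩
  have hww : w * w = 1 := by rw [← pow_two, hW.pow w hw]
  have hww' : w⁻¹ = w := inv_eq_of_mul_eq_one_left hww
  have hmemC : ∀ {u : G}, u * y * u⁻¹ = y → u ∈ centralizer ({y} : Set G) := by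
    intro u hu
    rw [Subgroup.mem_centralizer_iff]
    intro z hz
    rw [Set.mem_singleton_iff] at hz
    subst hz
    calc z * u = u * z * u⁻¹ * u := by rw [hu]
      _ = u * z := by group
  have hwnot : w ∉ W ⊓ centralizer ({y} : Set G) := by
    intro h
    have h2 := (Subgroup.mem_centralizer_iff.mp h.2) y rfl
    apply hy
    rw [← hinv, ← h2]
    group
  have h := (EA.sup_zpowers (hW.mono (inf_le_left : W ⊓ centralizer ({y} : Set G) ≤ W))
    (hW.pow w hw) hwnot (fun e he => hW.comm w hw e he.1)).2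
  rw [← h]
  have hle : W ⊓ centralizer ({y} : Set G) ⊔ zpowers w = W := by
    apply le_antisymm
    · exact sup_le inf_le_left (by rw [Subgroup.zpowers_le]; exact hw)
    · intro u hu
      rcases heig u hu with h1 | h1
      · exact Subgroup.mem_sup_left ⟨hu, hmemC h1⟩
      · have h2 : (u * w) * y * (u * w)⁻¹ = y := by
          have e1 : (u * w) * y * (u * w)⁻¹ = u * (w * y * w⁻¹) * u⁻¹ := by group
          rw [e1, hinv]
          have e2 : u * y⁻¹ * u⁻¹ = (u * y * u⁻¹)⁻¹ := by group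
          rw [e2, h1, inv_inv]
        have h3 : u * w ∈ W ⊓ centralizer ({y} : Set G) := ⟨W.mul_mem hu hw, hmemC h2⟩
        have h4 : u = (u * w) * w⁻¹ := by group
        rw [h4]
        exact Subgroup.mul_mem_sup h3 (Subgroup.inv_mem _ (Subgroup.mem_zpowers w))
  rw [hle]

/-! ### Cores of normalizers -/

/-- `O_q(N(T))` as a subgroup of the ambient group. -/
def coreK (q : ℕ) (T : Subgroup G) : Subgroup G :=
  (pCore q ↥(normalizer (T : Set G))).map (normalizer (T : Set G)).subtype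

/-- Self-centralizing cores. -/
def SelfCent (q : ℕ) (G : Type*) [Group G] : Prop :=
  ∀ T : Subgroup G, IsPGroup q T → T ≠ ⊥ →
    Subgroup.centralizer (pCore q ↥(Subgroup.normalizer (T : Set G)) :
      Set ↥(Subgroup.normalizer (T : Set G))) ≤ pCore q ↥(Subgroup.normalizer (T : Set G))

theorem coreK_isPGroup {q : ℕ} [Finite G] (T : Subgroup G) : IsPGroup q (coreK q T) :=
  (Cfsg.Agent.Lib.Core.Basic.pCore_isPGroup).map _

theorem coreK_le_normalizer (q : ℕ) (T : Subgroup G) : coreK q T ≤ normalizer (T : Set G) := by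
  rintro _ ⟨x, _, rfl⟩
  exact x.2

theorem normalizer_le_normalizer_coreK (q : ℕ) (T : Subgroup G) :
    normalizer (T : Set G) ≤ normalizer (coreK q T : Set G) := by
  rw [Subgroup.le_normalizer_iff]
  rintro g hg _ ⟨x, hx, rfl⟩
  refine ⟨⟨g, hg⟩ * x * (⟨g, hg⟩ : normalizer (T : Set G))⁻¹, ?_, rfl⟩
  exact (pCore_normal q _).conj_mem x hx ⟨g, hg⟩

theorem le_coreK {q : ℕ} [Finite G] {T : Subgroup G} (hT : IsPGroup q T) : T ≤ coreK q T := by
  intro t ht
  have hle : T ≤ normalizer (T : Set G) := Subgroup.le_normalizer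
  have hN : (T.subgroupOf (normalizer (T : Set G))).Normal := Subgroup.normal_in_normalizer
  have hp : IsPGroup q (T.subgroupOf (normalizer (T : Set G))) := by
    refine IsPGroup.of_injective (ϕ := (Subgroup.subgroupOfEquivOfLe hle).toMonoidHom) hT ?_
    exact (Subgroup.subgroupOfEquivOfLe hle).injective
  have := Cfsg.Agent.Lib.Core.Basic.le_pCore hN hp
  exact ⟨⟨t, hle ht⟩, this (by exact ht), rfl⟩

theorem mem_coreK_of_commute {q : ℕ} (h : SelfCent q G) {T : Subgroup G} (hT : IsPGroup q T)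
    (hT1 : T ≠ ⊥) {x : G} (hx : x ∈ normalizer (T : Set G))
    (hc : ∀ k ∈ coreK q T, k * x = x * k) : x ∈ coreK q T := by
  refine ⟨⟨x, hx⟩, h T hT hT1 ?_, rfl⟩
  rw [Subgroup.mem_centralizer_iff]
  intro k hk
  exact Subtype.ext (hc k.1 ⟨k, hk, rfl⟩)


/-! ### Faithfulness -/

theorem isSolvable_of_isPGroup {p : ℕ} [Fact p.Prime] [Finite G] {A : Subgroup G}
    (hA : IsPGroup p A) : Group.IsSolvable A := by
  have := hA.isNilpotent
  infer_instance

theorem card_lt_of_lt [Finite G] {A B : Subgroup G} (h : A ≤ B) (hne : A ≠ B) :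
    Nat.card A < Nat.card B := by
  by_contra hc
  exact hne (Subgroup.eq_of_le_of_card_ge h (not_lt.mp hc))

theorem le_normalizer_centralizer_singleton {T : Subgroup G} {z : G} (h : ∀ t ∈ T, t * z = z * t) :
    T ≤ normalizer (centralizer ({z} : Set G) : Set G) := by
  rw [Subgroup.le_normalizer_iff]
  intro t ht c hc
  rw [Subgroup.mem_centralizer_iff] at hc ⊢
  intro a ha
  rw [Set.mem_singleton_iff] at ha
  subst ha
  have h1 : Commute a c := hc a rfl
  have h2 : Commute a t := (h t ht).symm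
  exact ((h2.mul_right h1).mul_right h2.inv_right).eq


/-- `O_q(N(T)) ∩ C(T)`. -/
def OO (q : ℕ) (T : Subgroup G) : Subgroup G := coreK q T ⊓ centralizer (T : Set G)

theorem OO_isPGroup {q : ℕ} [Finite G] (T : Subgroup G) : IsPGroup q (OO q T) :=
  IsPGroup.to_le (coreK_isPGroup T) inf_le_left

theorem centralizer_le_normalizer (T : Subgroup G) :
    centralizer (T : Set G) ≤ normalizer (T : Set G) := by
  rw [Subgroup.le_normalizer_iff]
  intro c hc t ht
  have := (Subgroup.mem_centralizer_iff.mp hc) t ht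
  rw [← this, mul_assoc, mul_inv_cancel, mul_one]
  exact ht

theorem normalizer_le_normalizer_centralizer (T : Subgroup G) :
    normalizer (T : Set G) ≤ normalizer (centralizer (T : Set G) : Set G) := by
  rw [Subgroup.le_normalizer_iff]
  intro g hg c hc
  rw [Subgroup.mem_centralizer_iff] at hc ⊢
  intro t ht
  have h1 : g⁻¹ * t * g ∈ T := by
    have := Subgroup.le_normalizer_iff.mp (le_refl (normalizer (T : Set G))) g⁻¹
      (Subgroup.inv_mem _ hg) t ht
    simpa using this
  have h2 := hc _ h1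
  calc t * (g * c * g⁻¹) = g * ((g⁻¹ * t * g) * c) * g⁻¹ := by group
    _ = g * (c * (g⁻¹ * t * g)) * g⁻¹ := by rw [h2]
    _ = g * c * g⁻¹ * t := by group

theorem le_normalizer_inf {T A B : Subgroup G} (hA : T ≤ normalizer (A : Set G))
    (hB : T ≤ normalizer (B : Set G)) : T ≤ normalizer ((A ⊓ B : Subgroup G) : Set G) := by
  rw [Subgroup.le_normalizer_iff]
  intro t ht x hx
  exact ⟨Subgroup.le_normalizer_iff.mp hA t ht x hx.1, Subgroup.le_normalizer_iff.mp hB t ht x hx.2⟩

theorem le_normalizer_sup {T A B : Subgroup G} (hA : T ≤ normalizer (A : Set G))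
    (hB : T ≤ normalizer (B : Set G)) : T ≤ normalizer ((A ⊔ B : Subgroup G) : Set G) := by
  rw [Subgroup.le_normalizer_iff]
  intro t ht x hx
  have hle : A ⊔ B ≤ (A ⊔ B).comap (MulAut.conj t).toMonoidHom := by
    refine sup_le ?_ ?_
    · intro a ha
      exact Subgroup.mem_sup_left (Subgroup.le_normalizer_iff.mp hA t ht a ha)
    · intro a ha
      exact Subgroup.mem_sup_right (Subgroup.le_normalizer_iff.mp hB t ht a ha)
  exact hle hx

theorem normalizer_le_normalizer_OO (q : ℕ) (T : Subgroup G) :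
    normalizer (T : Set G) ≤ normalizer (OO q T : Set G) :=
  le_normalizer_inf (normalizer_le_normalizer_coreK q T) (normalizer_le_normalizer_centralizer T)

theorem zpowers_isPGroup {q n : ℕ} {x : G} (hx : x ^ q ^ n = 1) : IsPGroup q (zpowers x) := by
  rintro ⟨_, k, rfl⟩
  refine ⟨n, Subtype.ext ?_⟩
  show (x ^ k) ^ q ^ n = 1
  rw [← zpow_natCast, ← zpow_mul, mul_comm, zpow_mul, zpow_natCast, hx, one_zpow]

theorem eq_one_of_pow_pow {q s : ℕ} [Fact q.Prime] [Fact s.Prime] (hqs : q ≠ s) {x : G} {m n : ℕ}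
    (h1 : x ^ q ^ m = 1) (h2 : x ^ s ^ n = 1) : x = 1 := by
  have h3 := Nat.Coprime.pow m n ((Nat.coprime_primes Fact.out Fact.out).mpr hqs)
  have h4 := Nat.eq_one_of_dvd_coprimes h3 (orderOf_dvd_of_pow_eq_one h1)
    (orderOf_dvd_of_pow_eq_one h2)
  exact orderOf_eq_one_iff.mp h4

/-- `[k, a]` with `k` normalizing `E` and `a` centralizing `E` centralizes `E`. -/
theorem commutator_mem_centralizer {E : Subgroup G} {k a : G} (hk : k ∈ normalizer (E : Set G))
    (ha : a ∈ centralizer (E : Set G)) : ⁅k, a⁆ ∈ centralizer (E : Set G) := by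
  rw [commutatorElement_def]
  have h1 : k * a * k⁻¹ ∈ centralizer (E : Set G) :=
    Subgroup.le_normalizer_iff.mp (normalizer_le_normalizer_centralizer E) k hk a ha
  exact Subgroup.mul_mem _ h1 (Subgroup.inv_mem _ ha)

/-- **Faithfulness.**  A nontrivial `2`-element centralizing a nontrivial `p`-subgroup `E` moves
`O_p(N(E)) ∩ C(E)`. -/
theorem faithful {p : ℕ} [Fact p.Prime] [Finite G] (hp : p ≠ 2) (h : SelfCent p G)
    {E : Subgroup G} (hE : IsPGroup p E) (hE1 : E ≠ ⊥) {x : G}
    (hx : x ∈ centralizer (E : Set G)) {n : ℕ} (hx2 : x ^ 2 ^ n = 1) (hx1 : x ≠ 1) :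
    ∃ y ∈ OO p E, x * y ≠ y * x := by
  have : Fact (Nat.Prime 2) := ⟨Nat.prime_two⟩
  by_contra hcon
  push Not at hcon
  have hA : zpowers x ≤ centralizer (E : Set G) := by
    rw [Subgroup.zpowers_le]; exact hx
  have hAK : zpowers x ≤ normalizer (coreK p E : Set G) :=
    hA.trans ((centralizer_le_normalizer E).trans (normalizer_le_normalizer_coreK p E))
  have hcop : (Nat.card (zpowers x)).Coprime (Nat.card (coreK p E)) :=
    IsPGroup.coprime_card_of_ne 2 p hp.symm _ _ (zpowers_isPGroup hx2) (coreK_isPGroup E)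
  have hcc := commutator_commutator_eq hAK hcop
    (Or.inr (isSolvable_of_isPGroup (coreK_isPGroup E)))
  have h1 : ⁅coreK p E, zpowers x⁆ ≤ OO p E := by
    rw [Subgroup.commutator_le]
    intro k hk a ha
    refine ⟨?_, commutator_mem_centralizer (coreK_le_normalizer p E hk) (hA ha)⟩
    exact commutator_le_of_le_normalizer hAK (Subgroup.commutator_mem_commutator hk ha)
  have h2 : ⁅⁅coreK p E, zpowers x⁆, zpowers x⁆ = ⊥ := by
    rw [Subgroup.commutator_eq_bot_iff_le_centralizer]
    intro y hy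
    rw [Subgroup.mem_centralizer_iff]
    rintro _ ⟨k, rfl⟩
    have h3 := hcon y (h1 hy)
    exact ((Commute.zpow_left h3 k).eq)
  have h3 : ⁅coreK p E, zpowers x⁆ = ⊥ := hcc.symm.trans h2
  have h4 : x ∈ coreK p E := by
    refine mem_coreK_of_commute h hE hE1 (centralizer_le_normalizer E hx) ?_
    intro k hk
    rw [Subgroup.commutator_eq_bot_iff_le_centralizer] at h3
    have := (Subgroup.mem_centralizer_iff.mp (h3 hk)) x (Subgroup.mem_zpowers x)
    exact this.symm
  obtain ⟨m, hm⟩ := coreK_isPGroup (q := p) E ⟨x, h4⟩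
  have hm' : x ^ p ^ m = 1 := by simpa using congrArg Subtype.val hm
  exact hx1 (eq_one_of_pow_pow hp hm' hx2)

/-! ### The eigenvector lemma -/

/-- An elementary abelian `2`-group `W` normalizing a `p`-group `O` in which `w ∈ W` moves `O` has
an eigenvector of order `p` in `O` inverted by `w`. -/
theorem eigen {p : ℕ} [hpp : Fact p.Prime] [Finite G] (hp : p ≠ 2) {W : Subgroup G} (hW : EA 2 W) :
    ∀ (n : ℕ) (O : Subgroup G), Nat.card O = n → IsPGroup p O → W ≤ normalizer (O : Set G) →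
      ∀ w ∈ W, (∃ x ∈ O, w * x ≠ x * w) →
        ∃ y ∈ O, orderOf y = p ∧ w * y * w⁻¹ = y⁻¹ ∧
          ∀ u ∈ W, u * y * u⁻¹ = y ∨ u * y * u⁻¹ = y⁻¹ := by
  have : Fact (Nat.Prime 2) := ⟨Nat.prime_two⟩
  have hsq : ∀ u ∈ W, u * u = 1 := fun u hu => by rw [← pow_two, hW.pow u hu]
  have hinvW : ∀ u ∈ W, u⁻¹ = u := fun u hu => inv_eq_of_mul_eq_one_left (hsq u hu)
  intro n
  induction n using Nat.strong_induction_on with
  | _ n ih =>
  intro O hn hO hWO w hw hmove
  by_cases hcase : ∀ z ∈ W, (∀ x ∈ O, z * x = x * z) ∨ (∀ x ∈ O, (z * w) * x = x * (z * w))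
  · obtain ⟨x, hx, hxw⟩ := hmove
    have hwx : w * x * w⁻¹ ∈ O := Subgroup.le_normalizer_iff.mp hWO w hw x hx
    -- `y₀ = x⁻¹ x^w`
    obtain ⟨y₀, hy₀⟩ : ∃ y₀, y₀ = x⁻¹ * (w * x * w⁻¹) := ⟨_, rfl⟩
    have hy₀O : y₀ ∈ O := by rw [hy₀]; exact O.mul_mem (O.inv_mem hx) hwx
    have hy₀1 : y₀ ≠ 1 := by
      intro h
      apply hxw
      rw [hy₀, inv_mul_eq_one] at h
      calc w * x = w * x * w⁻¹ * w := by group
        _ = x * w := by rw [← h]
    have hwy₀ : w * y₀ * w⁻¹ = y₀⁻¹ := by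
      have hi := hinvW w hw
      have e : w * (x⁻¹ * (w * x * w⁻¹)) * w⁻¹ = w * x⁻¹ * w * x * (w⁻¹ * w⁻¹) := by group
      have e2 : (x⁻¹ * (w * x * w⁻¹))⁻¹ = w * x⁻¹ * w⁻¹ * x := by group
      rw [hy₀, e, e2, hi, hsq w hw, mul_one]
    have hu₀ : ∀ u ∈ W, u * y₀ * u⁻¹ = y₀ ∨ u * y₀ * u⁻¹ = y₀⁻¹ := by
      intro u hu
      rcases hcase u hu with h1 | h1
      · left
        rw [h1 y₀ hy₀O]; group
      · right
        have h2 := h1 y₀ hy₀O
        have h3 : (u * w) * y₀ * (u * w)⁻¹ = y₀ := by rw [h2]; group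
        have e : (u * w) * y₀ * (u * w)⁻¹ = u * (w * y₀ * w⁻¹) * u⁻¹ := by group
        rw [e, hwy₀] at h3
        have e2 : u * y₀ * u⁻¹ = (u * y₀⁻¹ * u⁻¹)⁻¹ := by group
        rw [e2, h3]
    obtain ⟨m, hm⟩ := Cfsg.Agent.Lib.Coprime.Eigen.exists_pow_orderOf_eq (p := p) hy₀1 (by
      obtain ⟨k, hk⟩ := hO ⟨y₀, hy₀O⟩
      exact ⟨k, by simpa using congrArg Subtype.val hk⟩)
    refine ⟨y₀ ^ m, O.pow_mem hy₀O m, hm, ?_, ?_⟩
    · rw [← conj_pow, hwy₀, inv_pow]
    · intro u hu
      rcases hu₀ u hu with h1 | h1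
      · left; rw [← conj_pow, h1]
      · right; rw [← conj_pow, h1, inv_pow]
  · push Not at hcase
    obtain ⟨z, hz, ⟨a, ha, haz⟩, ⟨b, hb, hbz⟩⟩ := hcase
    have hcase2 : ∀ z' ∈ W, (∃ x ∈ O, z' * x ≠ x * z') → (∃ x ∈ O ⊓ centralizer ({z'} : Set G),
        w * x ≠ x * w) → ∃ y ∈ O, orderOf y = p ∧ w * y * w⁻¹ = y⁻¹ ∧
          ∀ u ∈ W, u * y * u⁻¹ = y ∨ u * y * u⁻¹ = y⁻¹ := by
      intro z' hz' ⟨c, hc, hcz⟩ hmv
      have hne : O ⊓ centralizer ({z'} : Set G) ≠ O := by
        intro h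
        have h2 : c ∈ O ⊓ centralizer ({z'} : Set G) := by rw [h]; exact hc
        exact hcz ((Subgroup.mem_centralizer_iff.mp h2.2) z' rfl)
      have hlt := card_lt_of_lt (inf_le_left : O ⊓ centralizer ({z'} : Set G) ≤ O) hne
      rw [hn] at hlt
      obtain ⟨y, hy, hrest⟩ := ih _ hlt (O ⊓ centralizer ({z'} : Set G)) rfl
        (IsPGroup.to_le hO inf_le_left)
        (le_normalizer_inf hWO (le_normalizer_centralizer_singleton
          (fun t ht => hW.comm t ht z' hz'))) w hw hmv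
      exact ⟨y, hy.1, hrest⟩
    by_cases h1 : ∃ x ∈ O ⊓ centralizer ({z} : Set G), w * x ≠ x * w
    · exact hcase2 z hz ⟨a, ha, haz⟩ h1
    by_cases h2 : ∃ x ∈ O ⊓ centralizer ({z * w} : Set G), w * x ≠ x * w
    · exact hcase2 (z * w) (W.mul_mem hz hw) ⟨b, hb, hbz⟩ h2
    push Not at h1 h2
    exfalso
    obtain ⟨x, hx, hxw⟩ := hmove
    have hZ : ∀ z' : G, (∀ x ∈ O ⊓ centralizer ({z'} : Set G), w * x = x * w) →
        O ⊓ centralizer ({z'} : Set G) ≤ O ⊓ centralizer ({w} : Set G) := by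
      intro z' h c hc
      refine Subgroup.mem_inf.mpr ⟨hc.1, Subgroup.mem_centralizer_iff.mpr ?_⟩
      intro t ht
      rw [Set.mem_singleton_iff] at ht
      subst ht
      exact h c hc
    have hgen := generation (q := 2) O (O ⊓ centralizer ({w} : Set G)) W hWO
      (IsPGroup.coprime_card_of_ne 2 p hp.symm _ _ hW.isPGroup hO)
      (Or.inr (isSolvable_of_isPGroup hO))
      (by
        obtain ⟨k, hk⟩ := IsPGroup.iff_card.mp hO
        rw [hk]
        exact Nat.Coprime.pow_right k ((Nat.coprime_primes Nat.prime_two hpp.out).mpr hp.symm))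
      hz hw (hW.comm z hz w hw)
      (by rw [hW.pow z hz]; exact Subgroup.one_mem _)
      (by rw [hW.pow w hw]; exact Subgroup.one_mem _)
      inf_le_left le_rfl
      (by
        intro j
        have hww : w ^ 2 = 1 := hW.pow w hw
        rcases Nat.even_or_odd' j with ⟨m, rfl | rfl⟩
        · rw [pow_mul, hww, one_pow, mul_one]
          exact hZ z h1
        · rw [pow_succ, pow_mul, hww, one_pow, one_mul]
          exact hZ _ h2)
    have h3 : x ∈ O ⊓ centralizer ({w} : Set G) := by rw [hgen]; exact hx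
    exact hxw ((Subgroup.mem_centralizer_iff.mp h3.2) w rfl)

/-! ### The rank inequality -/

/-- The bound on ranks that follows from the maximality of `r`. -/
def RankBound (p r : ℕ) (G : Type*) [Group G] : Prop :=
  ∀ (b a : ℕ) (E W : Subgroup G), EA p E → E ≠ ⊥ → Nat.card E = p ^ a → EA 2 W → W ≠ ⊥ →
    Nat.card W = 2 ^ b → W ≤ centralizer (E : Set G) → a + b ≤ r + 1

theorem rank_bound {p r : ℕ} [hpp : Fact p.Prime] [Finite G] (hp : p ≠ 2) (h : SelfCent p G)
    (hmax : ∀ (E : Subgroup G) (v : G), EA p E → orderOf v = 2 → E ≤ centralizer ({v} : Set G) →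
      Nat.card E ≤ p ^ r) : RankBound p r G := by
  have : Fact (Nat.Prime 2) := ⟨Nat.prime_two⟩
  have hp1 : 1 < p := hpp.out.one_lt
  intro b
  induction b with
  | zero =>
    intro a E W _ _ _ _ hW1 hWc _
    exfalso
    apply hW1
    rw [pow_zero] at hWc
    exact (Subgroup.eq_bot_iff_card W).mpr hWc
  | succ k ih =>
    intro a E W hE hE1 hEc hW hW1 hWc hWE
    obtain ⟨⟨w, hw⟩, hw1⟩ := (Subgroup.ne_bot_iff_exists_ne_one).mp hW1
    have hw1' : w ≠ 1 := fun h => hw1 (Subtype.ext h)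
    have hw2 : w ^ 2 = 1 := hW.pow w hw
    by_cases hk : k = 0
    · subst hk
      have hord : orderOf w = 2 := orderOf_eq_prime hw2 hw1'
      have hle : E ≤ centralizer ({w} : Set G) := by
        intro e he
        rw [Subgroup.mem_centralizer_iff]
        intro t ht
        rw [Set.mem_singleton_iff] at ht
        subst ht
        exact ((Subgroup.mem_centralizer_iff.mp (hWE hw)) e he).symm
      have := hmax E w hE hord hle
      rw [hEc] at this
      have := (Nat.pow_le_pow_iff_right hp1).mp this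
      omega
    · obtain ⟨y, hy, hyord, hwy, heig⟩ := eigen hp hW _ (OO p E) rfl (OO_isPGroup E)
        (hWE.trans ((centralizer_le_normalizer E).trans (normalizer_le_normalizer_OO p E)))
        w hw (by
          obtain ⟨y, hy, hne⟩ := faithful hp h hE.isPGroup hE1 (hWE hw) (n := 1)
            (by simpa using hw2) hw1'
          exact ⟨y, hy, hne⟩)
      have hyodd : y ≠ y⁻¹ := by
        intro he
        have h2 : y ^ 2 = 1 := by
          rw [pow_two]
          nth_rewrite 1 [he]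
          exact inv_mul_cancel y
        have h3 := orderOf_dvd_of_pow_eq_one h2
        rw [hyord] at h3
        exact hp ((Nat.prime_dvd_prime_iff_eq hpp.out Nat.prime_two).mp h3)
      have hcW := card_eigen hW hw hwy hyodd heig
      obtain ⟨W₀, hW₀⟩ : ∃ W₀, W₀ = W ⊓ centralizer ({y} : Set G) := ⟨_, rfl⟩
      rw [← hW₀] at hcW
      have hW₀c : Nat.card W₀ = 2 ^ k := by
        rw [hWc, pow_succ] at hcW
        exact (Nat.eq_of_mul_eq_mul_right (by norm_num) hcW).symm
      have hW₀1 : W₀ ≠ ⊥ := by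
        intro he
        rw [he, Subgroup.card_bot] at hW₀c
        have : 1 < 2 ^ k := Nat.one_lt_two_pow hk
        omega
      have hyE : y ∉ E := by
        intro hyE
        have h1 := (Subgroup.mem_centralizer_iff.mp (hWE hw)) y hyE
        apply hyodd
        rw [← hwy, ← h1]
        group
      have hyc : ∀ e ∈ E, y * e = e * y := fun e he =>
        ((Subgroup.mem_centralizer_iff.mp hy.2) e he).symm
      have hyp : y ^ p = 1 := by rw [← hyord]; exact pow_orderOf_eq_one y
      obtain ⟨hE₁, hE₁c⟩ := EA.sup_zpowers hE hyp hyE hyc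
      have hle : W₀ ≤ centralizer ((E ⊔ zpowers y : Subgroup G) : Set G) := by
        intro u hu
        rw [hW₀] at hu
        have hle2 : E ⊔ zpowers y ≤ centralizer ({u} : Set G) := by
          refine sup_le ?_ ?_
          · intro e he
            rw [Subgroup.mem_centralizer_iff]
            intro t ht
            rw [Set.mem_singleton_iff] at ht
            subst ht
            exact ((Subgroup.mem_centralizer_iff.mp (hWE hu.1)) e he).symm
          · rw [Subgroup.zpowers_le, Subgroup.mem_centralizer_iff]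
            intro t ht
            rw [Set.mem_singleton_iff] at ht
            subst ht
            exact ((Subgroup.mem_centralizer_iff.mp hu.2) y rfl).symm
        rw [Subgroup.mem_centralizer_iff]
        intro e he
        exact ((Subgroup.mem_centralizer_iff.mp (hle2 he)) u rfl).symm
      have h6 := ih (a + 1) (E ⊔ zpowers y) W₀ hE₁
        (fun he => hyE (by
          have : y ∈ E ⊔ zpowers y := Subgroup.mem_sup_right (Subgroup.mem_zpowers y)
          rw [he, Subgroup.mem_bot] at this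
          rw [this]
          exact E.one_mem))
        (by rw [hE₁c, hEc, pow_succ]) (hW.mono (by rw [hW₀]; exact inf_le_left)) hW₀1 hW₀c hle
      omega

end Cfsg.Agent.Lib.KlingerMason
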