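/-
Klinger--Mason: further tools.  Involution triples, the telescoping lemma for `[Λ, ⟨g⟩]`, the
Fitting-type lemma modulo a central involution, and properness of `L² [L, X]`.
-/
import Cfsg.Agent.Lib.KlingerMason.Basic

set_option autoImplicit false
open scoped commutatorElement Pointwise

namespace Cfsg.Agent.Lib.KlingerMason

open Cfsg Subgroup
open Cfsg.Agent.Lib.Coprime.Action Cfsg.Agent.Lib.Coprime.Generation

variable {G : Type*} [Group G]

/-! ### Elementary abelian subgroups generated by involutions -/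

theorem ea_zpowers [Finite G] {v : G} (hv : v ^ 2 = 1) (hv1 : v ≠ 1) :
    EA 2 (zpowers v) ∧ Nat.card (zpowers v) = 2 ^ 1 := by
  have : Fact (Nat.Prime 2) := ⟨Nat.prime_two⟩
  refine ⟨⟨?_, ?_⟩, ?_⟩
  · rintro _ ⟨k, rfl⟩ _ ⟨l, rfl⟩
    exact ((Commute.refl v).zpow_zpow k l).eq
  · rintro _ ⟨k, rfl⟩
    show (v ^ k) ^ 2 = 1
    rw [← zpow_natCast, ← zpow_mul, mul_comm, zpow_mul]
    show (v ^ ((2 : ℕ) : ℤ)) ^ k = 1
    rw [zpow_natCast, hv, one_zpow]
  · rw [Nat.card_zpowers, orderOf_eq_prime hv hv1]; rfl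

theorem two_invol [Finite G] {v e : G} (hv : v ^ 2 = 1) (he : e ^ 2 = 1) (h : v * e = e * v)
    (hv1 : v ≠ 1) (he1 : e ≠ 1) (hev : e ≠ v) :
    EA 2 (zpowers v ⊔ zpowers e) ∧ Nat.card ↥(zpowers v ⊔ zpowers e) = 2 ^ 2 := by
  have : Fact (Nat.Prime 2) := ⟨Nat.prime_two⟩
  obtain ⟨h1, h2⟩ := ea_zpowers hv hv1
  have hnot : e ∉ zpowers v := by
    intro hmem
    rcases mem_zpowers_invol hv hmem with h3 | h3
    · exact he1 h3
    · exact hev h3
  have hc : ∀ x ∈ zpowers v, e * x = x * e := by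
    rintro _ ⟨k, rfl⟩
    exact (Commute.zpow_right (Commute.symm h) k).eq
  obtain ⟨h3, h4⟩ := EA.sup_zpowers h1 he hnot hc
  exact ⟨h3, by rw [h4, h2]; rfl⟩

theorem three_invol [Finite G] {v e₁ e₂ : G} (hv : v ^ 2 = 1) (he₁ : e₁ ^ 2 = 1) (he₂ : e₂ ^ 2 = 1)
    (h₁ : v * e₁ = e₁ * v) (h₂ : v * e₂ = e₂ * v) (h₃ : e₁ * e₂ = e₂ * e₁) (hv1 : v ≠ 1)
    (h11 : e₁ ≠ 1) (h12 : e₁ ≠ v) (h21 : e₂ ≠ 1) (h22 : e₂ ≠ v) (h23 : e₂ ≠ e₁)
    (h24 : e₂ ≠ e₁ * v) :
    EA 2 (zpowers v ⊔ zpowers e₁ ⊔ zpowers e₂) ∧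
      Nat.card ↥(zpowers v ⊔ zpowers e₁ ⊔ zpowers e₂) = 2 ^ 3 := by
  have : Fact (Nat.Prime 2) := ⟨Nat.prime_two⟩
  obtain ⟨h1, h2⟩ := two_invol hv he₁ h₁ hv1 h11 h12
  have hc : ∀ x ∈ zpowers v ⊔ zpowers e₁, e₂ * x = x * e₂ := by
    have hle : zpowers v ⊔ zpowers e₁ ≤ centralizer ({e₂} : Set G) := by
      refine sup_le ?_ ?_
      · rw [Subgroup.zpowers_le, Subgroup.mem_centralizer_iff]
        rintro t rfl
        exact h₂.symm
      · rw [Subgroup.zpowers_le, Subgroup.mem_centralizer_iff]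
        rintro t rfl
        exact h₃.symm
    intro x hx
    exact (Subgroup.mem_centralizer_iff.mp (hle hx)) e₂ rfl
  have hnot : e₂ ∉ zpowers v ⊔ zpowers e₁ := by
    intro hmem
    have he₁e₁ : e₁ * e₁ = 1 := by rw [← pow_two, he₁]
    have hc₁ : ∀ x ∈ zpowers v, e₁ * x = x * e₁ := by
      rintro _ ⟨k, rfl⟩
      exact (Commute.zpow_right (Commute.symm h₁) k).eq
    rcases mem_sup_zpowers_invol he₁ hc₁ hmem with h3 | h3
    · rcases mem_zpowers_invol hv h3 with h4 | h4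
      · exact h21 h4
      · exact h22 h4
    · rcases mem_zpowers_invol hv h3 with h4 | h4
      · apply h23
        calc e₂ = e₂ * e₁ * e₁ := by rw [mul_assoc, he₁e₁, mul_one]
          _ = e₁ := by rw [h4, one_mul]
      · apply h24
        calc e₂ = e₂ * e₁ * e₁ := by rw [mul_assoc, he₁e₁, mul_one]
          _ = v * e₁ := by rw [h4]
          _ = e₁ * v := h₁
  obtain ⟨h3, h4⟩ := EA.sup_zpowers h1 he₂ hnot hc
  exact ⟨h3, by rw [h4, h2]; rfl⟩

/-- `⟨t⟩` inside a centralizer. -/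
theorem zpowers_le_centralizer {t : G} {H : Subgroup G} (h : ∀ x ∈ H, t * x = x * t) :
    zpowers t ≤ centralizer (H : Set G) := by
  rw [Subgroup.zpowers_le, Subgroup.mem_centralizer_iff]
  intro x hx
  exact (h x hx).symm

/-- A group without elementary abelian `2`-subgroups of order `8` in the centralizer of `H`. -/
def NoRank3 (H : Subgroup G) : Prop :=
  ∀ W : Subgroup G, EA 2 W → Nat.card W = 2 ^ 3 → W ≤ centralizer (H : Set G) → False

theorem commute_of_pow_commute {d x : G} {n p : ℕ} (hd : d ^ p = 1) (hcop : n.Coprime p)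
    (h : Commute (d ^ n) x) : Commute d x := by
  have h1 : n.Coprime (orderOf d) :=
    Nat.Coprime.coprime_dvd_right (orderOf_dvd_of_pow_eq_one hd) hcop
  obtain ⟨m, hm⟩ := exists_pow_eq_self_of_coprime h1
  rw [← hm]
  exact h.pow_left m

/-- Telescoping: `[Λ, ⟨g⟩]` is generated by the commutators `[z, g]`, `z ∈ Λ`. -/
theorem commutator_zpowers_le [Finite G] {Λ R : Subgroup G} {g : G}
    (hg : g ∈ normalizer (Λ : Set G)) (h : ∀ z ∈ Λ, ⁅z, g⁆ ∈ R) : ⁅Λ, zpowers g⁆ ≤ R := by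
  rw [Subgroup.commutator_le]
  intro y hy a ha
  have ha' : a ∈ Submonoid.powers g := (mem_powers_iff_mem_zpowers).mpr ha
  obtain ⟨k, rfl⟩ := ha'
  clear ha
  have hgk : ∀ k : ℕ, g ^ k ∈ normalizer (Λ : Set G) := fun k => Subgroup.pow_mem _ hg k
  induction k with
  | zero => simp [commutatorElement_def]
  | succ k ih =>
    have hz : g ^ k * y * (g ^ k)⁻¹ ∈ Λ :=
      Subgroup.le_normalizer_iff.mp (le_refl _) _ (hgk k) y hy
    have e : ⁅y, g ^ (k + 1)⁆ = ⁅y, g ^ k⁆ * ⁅g ^ k * y * (g ^ k)⁻¹, g⁆ := by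
      simp only [commutatorElement_def, pow_succ]
      group
    rw [e]
    exact R.mul_mem ih (h _ hz)

/-- **Lemma A.** -/
theorem lemma_A [Finite G] {p : ℕ} (hp : Nat.Coprime 2 p) {H : Subgroup G} (hH : NoRank3 H)
    {a d v : G} (hd : d ^ p = 1) (hdH : ∀ h ∈ H, d * h = h * d) (hdv : d * v = v * d)
    (hv2 : v ^ 2 = 1) (hv1 : v ≠ 1) (haH : ∀ h ∈ H, a * h = h * a) (hvH : ∀ h ∈ H, v * h = h * v)
    (hav : a * v = v * a) (ha2 : a ^ 2 = 1 ∨ a ^ 2 = v)
    (h01 : a * (d * a * d⁻¹) = (d * a * d⁻¹) * a)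
    (h02 : a * (d * (d * a * d⁻¹) * d⁻¹) = (d * (d * a * d⁻¹) * d⁻¹) * a) : d * a = a * d := by
  by_contra hne
  obtain ⟨a₁, ha₁⟩ : ∃ a₁, a₁ = d * a * d⁻¹ := ⟨_, rfl⟩
  obtain ⟨a₂, ha₂⟩ : ∃ a₂, a₂ = d * a₁ * d⁻¹ := ⟨_, rfl⟩
  rw [← ha₁] at h01
  rw [← ha₁, ← ha₂] at h02
  have hcj : ∀ x y : G, Commute x y → Commute (d * x * d⁻¹) (d * y * d⁻¹) := by
    intro x y hxy
    have := hxy.eq
    show d * x * d⁻¹ * (d * y * d⁻¹) = d * y * d⁻¹ * (d * x * d⁻¹)
    calc d * x * d⁻¹ * (d * y * d⁻¹) = d * (x * y) * d⁻¹ := by group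
      _ = d * (y * x) * d⁻¹ := by rw [this]
      _ = d * y * d⁻¹ * (d * x * d⁻¹) := by group
  have hvd : d * v * d⁻¹ = v := by rw [hdv]; group
  have c01 : Commute a a₁ := h01
  have c02 : Commute a a₂ := h02
  have c12 : Commute a₁ a₂ := by
    have := hcj a a₁ c01
    rwa [← ha₁, ← ha₂] at this
  have cv0 : Commute v a := Commute.symm hav
  have cv1 : Commute v a₁ := by
    have := hcj v a cv0
    rwa [hvd, ← ha₁] at this
  have cv2 : Commute v a₂ := by
    have := hcj v a₁ cv1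
    rwa [hvd, ← ha₂] at this
  have hsq₁ : a₁ ^ 2 = a ^ 2 := by
    rw [ha₁, conj_pow]
    rcases ha2 with h | h
    · rw [h]; simp
    · rw [h, hvd]
  have hvv : v * v = 1 := by rw [← pow_two, hv2]
  have hcd2 : ∀ x : G, d * (d * x * d⁻¹) * d⁻¹ = x → d * x = x * d := by
    intro x hx
    have h1 : Commute (d ^ 2) x := by
      show d ^ 2 * x = x * d ^ 2
      calc d ^ 2 * x = d * (d * x * d⁻¹) * d⁻¹ * d ^ 2 := by rw [pow_two]; group
        _ = x * d ^ 2 := by rw [hx]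
    exact (commute_of_pow_commute hd hp h1).eq
  have ha₁ne : a₁ ≠ a := by
    intro h
    apply hne
    rw [ha₁] at h
    calc d * a = d * a * d⁻¹ * d := by group
      _ = a * d := by rw [h]
  have ha₂ne : a₂ ≠ a := by
    intro h
    apply hne
    apply hcd2
    rw [← ha₁, ← ha₂, h]
  obtain ⟨w, hw⟩ : ∃ w, w = a⁻¹ * a₁ := ⟨_, rfl⟩
  obtain ⟨w', hw'⟩ : ∃ w', w' = a₁⁻¹ * a₂ := ⟨_, rfl⟩
  have hdw : d * w * d⁻¹ = w' := by
    rw [hw, hw', ha₂, ha₁]; group
  have hw2 : w ^ 2 = 1 := by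
    rw [hw, (Commute.inv_left c01).mul_pow, hsq₁, inv_pow, inv_mul_cancel]
  have hw'2 : w' ^ 2 = 1 := by
    rw [← hdw, conj_pow, hw2]; simp
  have cvw : Commute v w := by
    rw [hw]; exact cv0.inv_right.mul_right cv1
  have cvw' : Commute v w' := by
    rw [hw']; exact cv1.inv_right.mul_right cv2
  have cww' : Commute w w' := by
    rw [hw, hw']
    have e1 : Commute a⁻¹ a₁⁻¹ := Commute.inv_inv c01
    have e2 : Commute a⁻¹ a₂ := Commute.inv_left c02
    have e3 : Commute a₁ a₁⁻¹ := (Commute.refl a₁).inv_right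
    have e4 : Commute a₁ a₂ := c12
    exact (e1.mul_right e2).mul_left (e3.mul_right e4)
  have hw1 : w ≠ 1 := by
    intro h
    rw [hw, inv_mul_eq_one] at h
    exact ha₁ne h.symm
  have hwv : w ≠ v := by
    intro h
    apply ha₂ne
    -- `a₁ = a v`, hence `a₂ = a₁ v = a`
    have h1 : a₁ = a * v := by rw [← h, hw]; group
    rw [ha₂, h1]
    have e : d * (a * v) * d⁻¹ = d * a * d⁻¹ * (d * v * d⁻¹) := by group
    rw [e, hvd, ← ha₁, h1, mul_assoc, hvv, mul_one]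
  have hw'1 : w' ≠ 1 := by
    intro h
    apply hw1
    rw [← hdw] at h
    have : w = d⁻¹ * (d * w * d⁻¹) * d := by group
    rw [this, h]; simp
  have hw'v : w' ≠ v := by
    intro h
    apply hwv
    rw [← hdw] at h
    have : w = d⁻¹ * (d * w * d⁻¹) * d := by group
    rw [this, h, mul_assoc, ← hdv]; group
  have hw'w : w' ≠ w := by
    intro h
    apply ha₂ne
    rw [hw, hw'] at h
    have h1 : a₂ = a₁ * (a⁻¹ * a₁) := by rw [← h]; group
    rw [h1]
    have h2 : a₁ * (a⁻¹ * a₁) = a₁ ^ 2 * a⁻¹ := by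
      have h3 : a⁻¹ * a₁ = a₁ * a⁻¹ := (Commute.inv_left c01).eq
      rw [h3, pow_two, mul_assoc]
    rw [h2, hsq₁, pow_two, mul_assoc, mul_inv_cancel, mul_one]
  have hw'wv : w' ≠ w * v := by
    intro h
    apply hw'w
    have h1 : d * w' * d⁻¹ = w := by
      rw [h]
      have e : d * (w * v) * d⁻¹ = d * w * d⁻¹ * (d * v * d⁻¹) := by group
      rw [e, hvd, hdw, h, mul_assoc, hvv, mul_one]
    have h2 : d * w = w * d := hcd2 w (by rw [hdw]; exact h1)
    rw [← hdw, h2]; group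
  obtain ⟨h3, h4⟩ := three_invol hv2 hw2 hw'2 cvw.eq cvw'.eq cww'.eq hv1 hw1 hwv hw'1 hw'v hw'w hw'wv
  refine hH _ h3 h4 ?_
  have cH : ∀ x y : G, (∀ h ∈ H, x * h = h * x) → (∀ h ∈ H, y * h = h * y) →
      ∀ h ∈ H, x * y * h = h * (x * y) := by
    intro x y hx hy h hh
    have h1 : Commute x h := hx h hh
    have h2 : Commute y h := hy h hh
    exact (h1.mul_left h2).eq
  have cI : ∀ x : G, (∀ h ∈ H, x * h = h * x) → ∀ h ∈ H, x⁻¹ * h = h * x⁻¹ := by
    intro x hx h hh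
    have h1 : Commute x h := hx h hh
    exact (Commute.inv_left h1).eq
  have cD : ∀ x : G, (∀ h ∈ H, x * h = h * x) → ∀ h ∈ H, d * x * d⁻¹ * h = h * (d * x * d⁻¹) := by
    intro x hx h hh
    have h1 : Commute x h := hx h hh
    have h2 : Commute d h := hdH h hh
    exact (((h2.mul_left h1).mul_left (Commute.inv_left h2))).eq
  have ha₁H := cD a haH
  rw [← ha₁] at ha₁H
  have ha₂H := cD a₁ ha₁H
  rw [← ha₂] at ha₂H
  refine sup_le (sup_le (zpowers_le_centralizer hvH) (zpowers_le_centralizer ?_))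
    (zpowers_le_centralizer ?_)
  · rw [hw]; exact cH _ _ (cI a haH) ha₁H
  · rw [hw']; exact cH _ _ (cI a₁ ha₁H) ha₂H

/-! ### A Fitting-type lemma -/

theorem abstract_fitting {Λ : Type*} [Group Λ] [Finite Λ] (V : Subgroup Λ) [V.Normal]
    (hcomm : ∀ a b : Λ, a * b * a⁻¹ * b⁻¹ ∈ V) (α : Λ →* Λ) (hαV : ∀ x ∈ V, α x = x)
    (hsurj : ∀ R : Subgroup Λ, V ≤ R → (∀ z, z * (α z)⁻¹ ∈ R) → R = ⊤) (x : Λ) (hx : α x = x) :
    x ∈ V := by
  have hQ : ∀ a b : Λ ⧸ V, a * b = b * a := by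
    intro a b
    induction a using QuotientGroup.induction_on with
    | H a =>
    induction b using QuotientGroup.induction_on with
    | H b =>
    rw [← QuotientGroup.mk_mul, ← QuotientGroup.mk_mul, QuotientGroup.eq]
    have := hcomm b⁻¹ a⁻¹
    have e : (a * b)⁻¹ * (b * a) = b⁻¹ * a⁻¹ * b⁻¹⁻¹ * a⁻¹⁻¹ := by group
    rw [e]
    exact this
  let _ : CommGroup (Λ ⧸ V) := { (inferInstance : Group (Λ ⧸ V)) with mul_comm := hQ }
  let mk : Λ →* Λ ⧸ V := QuotientGroup.mk' V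
  let f : Λ →* Λ ⧸ V := mk / (mk.comp α)
  have hfV : ∀ y ∈ V, f y = 1 := by
    intro y hy
    show mk y / mk (α y) = 1
    rw [hαV y hy, div_self']
  let F : Λ ⧸ V →* Λ ⧸ V := QuotientGroup.lift V f hfV
  have hF : ∀ y : Λ, F (mk y) = mk y / mk (α y) := fun y => rfl
  have hFsurj : Function.Surjective F := by
    intro q
    induction q using QuotientGroup.induction_on with
    | H y =>
    have htop := hsurj (F.range.comap mk) ?_ ?_
    · have : y ∈ F.range.comap mk := by rw [htop]; exact Subgroup.mem_top y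
      exact this
    · intro v hv
      show mk v ∈ F.range
      have : mk v = 1 := (QuotientGroup.eq_one_iff v).mpr hv
      rw [this]
      exact Subgroup.one_mem _
    · intro z
      show mk (z * (α z)⁻¹) ∈ F.range
      refine ⟨mk z, ?_⟩
      rw [hF, map_mul, map_inv, div_eq_mul_inv]
  have hFinj : Function.Injective F := Finite.injective_iff_surjective.mpr hFsurj
  have h1 : F (mk x) = F 1 := by
    rw [hF, hx, div_self', map_one]
  have h2 : mk x = 1 := hFinj h1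
  exact (QuotientGroup.eq_one_iff x).mp h2

/-- If `Λ = [Λ, g]` and `Λ / ⟨v⟩` is abelian with `v` central in `Λ` and fixed by `g` then
`C_Λ(g) ≤ ⟨v⟩`. -/
theorem fitting_mod [Finite G] {Λ : Subgroup G} {v g : G} (hv : v ∈ Λ) (hv2 : v ^ 2 = 1)
    (hvc : ∀ x ∈ Λ, x * v = v * x) (hcomm : ∀ x ∈ Λ, ∀ y ∈ Λ, ⁅x, y⁆ = 1 ∨ ⁅x, y⁆ = v)
    (hg : g ∈ normalizer (Λ : Set G)) (hgv : g * v = v * g) (hgen : ⁅Λ, zpowers g⁆ = Λ) :
    ∀ x ∈ Λ, g * x = x * g → x = 1 ∨ x = v := by
  intro x hx hgx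
  let v' : Λ := ⟨v, hv⟩
  let V : Subgroup Λ := zpowers v'
  have hv'2 : v' ^ 2 = 1 := Subtype.ext hv2
  have hVmem : ∀ y ∈ V, (y : G) = 1 ∨ (y : G) = v := by
    intro y hy
    rcases mem_zpowers_invol hv'2 hy with h | h
    · left; rw [h]; rfl
    · right; rw [h]
  have hVn : V.Normal := by
    constructor
    intro n hn g'
    rcases mem_zpowers_invol hv'2 hn with h | h
    · rw [h]; simp
    · rw [h]
      have : g' * v' * g'⁻¹ = v' := by
        apply Subtype.ext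
        show (g' : G) * v * (g' : G)⁻¹ = v
        rw [hvc g' g'.2]; group
      rw [this]
      exact Subgroup.mem_zpowers v'
  have hconj : ∀ y ∈ Λ, g * y * g⁻¹ ∈ Λ := fun y hy =>
    Subgroup.le_normalizer_iff.mp (le_refl _) g hg y hy
  let α : Λ →* Λ :=
    { toFun := fun y => ⟨g * y * g⁻¹, hconj y y.2⟩
      map_one' := by apply Subtype.ext; simp
      map_mul' := by
        intro a b
        apply Subtype.ext
        show g * (a * b : G) * g⁻¹ = g * a * g⁻¹ * (g * b * g⁻¹)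
        group }
  have hres := abstract_fitting V ?_ α ?_ ?_ ⟨x, hx⟩ ?_
  · rcases hVmem _ hres with h | h
    · left; exact h
    · right; exact h
  · intro a b
    have := hcomm a a.2 b b.2
    rcases this with h | h
    · have e : a * b * a⁻¹ * b⁻¹ = 1 := Subtype.ext h
      rw [e]; exact Subgroup.one_mem _
    · have e : a * b * a⁻¹ * b⁻¹ = v' := Subtype.ext h
      rw [e]; exact Subgroup.mem_zpowers v'
  · intro y hy
    apply Subtype.ext
    show g * (y : G) * g⁻¹ = y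
    rcases hVmem y hy with h | h
    · rw [h]; simp
    · rw [h, hgv]; group
  · intro R hVR hR
    rw [eq_top_iff]
    intro y _
    have hle : ⁅Λ, zpowers g⁆ ≤ R.map Λ.subtype := by
      apply commutator_zpowers_le hg
      intro z hz
      have h1 := hR ⟨z, hz⟩
      refine ⟨_, h1, ?_⟩
      show (z : G) * (g * z * g⁻¹)⁻¹ = ⁅z, g⁆
      rw [commutatorElement_def]
      group
    rw [hgen] at hle
    obtain ⟨y', hy', he⟩ := hle y.2
    have : y' = y := Subtype.ext he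
    rwa [← this]
  · apply Subtype.ext
    show g * x * g⁻¹ = x
    rw [hgx]; group

/-! ### Properness of `L² [L, X]` -/

theorem commutator_ne_of_isPGroup {p : ℕ} [Fact p.Prime] [Finite G] {L X : Subgroup G}
    (hLX : L ≤ X) (hX : IsPGroup p X) (hL : L ≠ ⊥) : ⁅L, X⁆ ≠ L := by
  intro heq
  have hn : Group.IsNilpotent X := hX.isNilpotent
  obtain ⟨n, hn⟩ := (Subgroup.nilpotent_iff_lowerCentralSeries (G := X)).mp hn
  have hmap : (L.subgroupOf X).map X.subtype = L := by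
    rw [Subgroup.map_subgroupOf_eq_of_le hLX]
  have htop : (⊤ : Subgroup X).map X.subtype = X := by
    ext y; simp
  have hinj : Function.Injective (Subgroup.map X.subtype) := Subgroup.map_injective X.subtype_injective
  have h1 : ⁅L.subgroupOf X, ⊤⁆ = L.subgroupOf X := by
    apply hinj
    rw [Subgroup.map_commutator, hmap, htop, heq]
  have h2 : ∀ m, L.subgroupOf X ≤ (⊤ : Subgroup X).lowerCentralSeries m := by
    intro m
    induction m with
    | zero => exact le_top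
    | succ m ih =>
      rw [← h1]
      exact Subgroup.commutator_mono ih le_rfl
  have h3 := h2 n
  rw [hn, le_bot_iff] at h3
  apply hL
  rw [← hmap, h3, Subgroup.map_bot]

theorem abstract_squares {L : Type*} [Group L] [Finite L] (Y : Subgroup L) [Y.Normal]
    (hcomm : ∀ a b : L, a * b * a⁻¹ * b⁻¹ ∈ Y) (hY : Y ≠ ⊤) (h2 : IsPGroup 2 L) :
    ∃ R : Subgroup L, R ≠ ⊤ ∧ Y ≤ R ∧ ∀ a : L, a ^ 2 ∈ R := by
  have : Fact (Nat.Prime 2) := ⟨Nat.prime_two⟩
  have hQ : ∀ a b : L ⧸ Y, a * b = b * a := by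
    intro a b
    induction a using QuotientGroup.induction_on with
    | H a =>
    induction b using QuotientGroup.induction_on with
    | H b =>
    rw [← QuotientGroup.mk_mul, ← QuotientGroup.mk_mul, QuotientGroup.eq]
    have := hcomm b⁻¹ a⁻¹
    have e : (a * b)⁻¹ * (b * a) = b⁻¹ * a⁻¹ * b⁻¹⁻¹ * a⁻¹⁻¹ := by group
    rw [e]
    exact this
  let _ : CommGroup (L ⧸ Y) := { (inferInstance : Group (L ⧸ Y)) with mul_comm := hQ }
  let φ : L ⧸ Y →* L ⧸ Y := powMonoidHom 2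
  have hnontriv : Nontrivial (L ⧸ Y) := QuotientGroup.nontrivial_iff.mpr hY
  have h2Q : IsPGroup 2 (L ⧸ Y) := h2.to_quotient Y
  have hnotinj : ¬ Function.Injective φ := by
    obtain ⟨n, hn⟩ := IsPGroup.iff_card.mp h2Q
    have hn0 : n ≠ 0 := by
      rintro rfl
      rw [pow_zero] at hn
      have := Finite.one_lt_card (α := L ⧸ Y)
      omega
    have hdvd : 2 ∣ Nat.card (L ⧸ Y) := by
      rw [hn]; exact dvd_pow_self 2 hn0
    obtain ⟨q, hq⟩ := exists_prime_orderOf_dvd_card' 2 hdvd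
    intro hinj
    have h3 : φ q = φ 1 := by
      show q ^ 2 = (1 : L ⧸ Y) ^ 2
      rw [one_pow, ← hq, pow_orderOf_eq_one]
    have h4 : q = 1 := hinj h3
    rw [h4, orderOf_one] at hq
    omega
  have hnotsurj : ¬ Function.Surjective φ := fun h =>
    hnotinj (Finite.injective_iff_surjective.mpr h)
  refine ⟨φ.range.comap (QuotientGroup.mk' Y), ?_, ?_, ?_⟩
  · intro htop
    apply hnotsurj
    intro q
    induction q using QuotientGroup.induction_on with
    | H y =>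
    have : y ∈ φ.range.comap (QuotientGroup.mk' Y) := by rw [htop]; exact Subgroup.mem_top y
    exact this
  · intro y hy
    show (QuotientGroup.mk' Y y) ∈ φ.range
    have : QuotientGroup.mk' Y y = 1 := (QuotientGroup.eq_one_iff y).mpr hy
    rw [this]
    exact Subgroup.one_mem _
  · intro a
    show (QuotientGroup.mk' Y (a ^ 2)) ∈ φ.range
    exact ⟨QuotientGroup.mk' Y a, by
      show (QuotientGroup.mk' Y a) ^ 2 = _
      rw [map_pow]⟩

end Cfsg.Agent.Lib.KlingerMason
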