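/-
Klinger--Mason: the splitting lemma.  From a 2-group `X` normalized and moved by a tight elementary
abelian `p`-group `E` we extract a "component" `Λ`: a section of class at most two, of squares and
commutators inside `⟨v⟩`, on which `E` acts through a cyclic quotient.
-/
import Cfsg.Agent.Lib.KlingerMason.Tools

set_option autoImplicit false
open scoped commutatorElement Pointwise

namespace Cfsg.Agent.Lib.KlingerMason

open Cfsg Subgroup
open Cfsg.Agent.Lib.Coprime.Action Cfsg.Agent.Lib.Coprime.Generation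

variable {G : Type*} [Group G]

/-- The extracted section. -/
structure Comp (p : ℕ) (X E : Subgroup G) (v : G) (H Λ : Subgroup G) : Prop where
  H_le : H ≤ E
  card_H : Nat.card E = Nat.card H * p
  L_le : Λ ≤ X
  centr : ∀ h ∈ H, ∀ x ∈ Λ, h * x = x * h
  norm : E ≤ normalizer (Λ : Set G)
  gen : ∀ g ∈ E, g ∉ H → ⁅Λ, zpowers g⁆ = Λ
  fix : ∀ g ∈ E, g ∉ H → ∀ x ∈ Λ, g * x = x * g → x = 1 ∨ x = v
  v_mem : v ∈ Λ
  sq : ∀ x ∈ Λ, x ^ 2 = 1 ∨ x ^ 2 = v
  comm : ∀ x ∈ Λ, ∀ n ∈ X, ⁅x, n⁆ = 1 ∨ ⁅x, n⁆ = v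
  nonab : ∃ x ∈ Λ, ∃ y ∈ Λ, x * y ≠ y * x
  center : ∀ x ∈ Λ, (∀ y ∈ Λ, x * y = y * x) → x = 1 ∨ x = v

theorem unique_invol [Finite G] {p r : ℕ} (hR : RankBound p r G) {E : Subgroup G} (hE : EA p E)
    (hE1 : E ≠ ⊥) (hcard : Nat.card E = p ^ r) {v u : G} (hv2 : v ^ 2 = 1) (hv1 : v ≠ 1)
    (hvE : ∀ e ∈ E, v * e = e * v) (hu : u ^ 2 = 1) (huE : ∀ e ∈ E, u * e = e * u)
    (huv : u * v = v * u) : u = 1 ∨ u = v := by
  by_contra hc
  push Not at hc
  obtain ⟨h1, h2⟩ := two_invol hv2 hu huv.symm hv1 hc.1 hc.2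
  have hne : zpowers v ⊔ zpowers u ≠ ⊥ := by
    intro he
    rw [he, Subgroup.card_bot] at h2
    omega
  have := hR 2 r E _ hE hE1 hcard h1 hne h2
    (sup_le (zpowers_le_centralizer hvE) (zpowers_le_centralizer huE))
  omega

theorem noRank3_of [Finite G] {p r : ℕ} (hR : RankBound p r G) {H : Subgroup G} (hH : EA p H)
    (hH1 : H ≠ ⊥) {a : ℕ} (hcard : Nat.card H = p ^ a) (ha : r ≤ a + 1) : NoRank3 H := by
  intro W hW hWc hWH
  have hne : W ≠ ⊥ := by
    intro he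
    rw [he, Subgroup.card_bot] at hWc
    omega
  have := hR 3 a H W hH hH1 hcard hW hne hWc hWH
  omega

theorem le_normalizer_closure {T : Subgroup G} {s : Set G} (h : ∀ t ∈ T, ∀ x ∈ s, t * x * t⁻¹ ∈ s) :
    T ≤ normalizer ((closure s : Subgroup G) : Set G) := by
  rw [Subgroup.le_normalizer_iff]
  intro t ht x hx
  have hle : closure s ≤ (closure s).comap (MulAut.conj t).toMonoidHom := by
    rw [Subgroup.closure_le]
    intro y hy
    exact Subgroup.subset_closure (h t ht y hy)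
  exact hle hx

/-- `[x, y]² = [x², y]` when `[x, y]` commutes with `x`: here, trivial if `y` commutes with `x²`. -/
theorem commutator_sq_eq_one {x y : G} (hx : x * ⁅x, y⁆ = ⁅x, y⁆ * x) (hy : y * x ^ 2 = x ^ 2 * y) :
    ⁅x, y⁆ ^ 2 = 1 := by
  obtain ⟨c, hc⟩ : ∃ c, c = ⁅x, y⁆ := ⟨_, rfl⟩
  rw [← hc] at hx ⊢
  have h1 : x * y = c * y * x := by
    rw [hc, commutatorElement_def]; group
  have h2 : x ^ 2 * y = c ^ 2 * y * x ^ 2 := by
    calc x ^ 2 * y = x * (x * y) := by rw [pow_two, mul_assoc]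
      _ = x * (c * y * x) := by rw [h1]
      _ = (x * c) * y * x := by group
      _ = (c * x) * y * x := by rw [hx]
      _ = c * (x * y) * x := by group
      _ = c * (c * y * x) * x := by rw [h1]
      _ = c ^ 2 * y * x ^ 2 := by rw [pow_two, pow_two]; group
  rw [← hy] at h2
  have h3 : c ^ 2 * (y * x ^ 2) = 1 * (y * x ^ 2) := by
    rw [one_mul, ← mul_assoc]; exact h2.symm
  exact mul_right_cancel h3

theorem exists_comp [Finite G] {p r : ℕ} [hpp : Fact p.Prime] (hp : p ≠ 2) (hR : RankBound p r G)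
    (hr : 2 ≤ r) {E : Subgroup G} {v : G} (hE : EA p E) (hcard : Nat.card E = p ^ r)
    (hv2 : v ^ 2 = 1) (hv1 : v ≠ 1) (hvE : ∀ e ∈ E, e * v = v * e)
    {X : Subgroup G} (hX : IsPGroup 2 X) (hEX : E ≤ normalizer (X : Set G)) (hvX : v ∈ X)
    (hvc : ∀ x ∈ X, x * v = v * x) (hmove : ∃ g ∈ E, ∃ x ∈ X, g * x ≠ x * g) :
    ∃ H Λ, Comp p X E v H Λ := by
  have : Fact (Nat.Prime 2) := ⟨Nat.prime_two⟩
  have hp1 : 1 < p := hpp.out.one_lt
  have hXX : X ≤ normalizer (X : Set G) := Subgroup.le_normalizer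
  -- the minimal `L`
  obtain ⟨L, hLmin⟩ := (Set.toFinite {L : Subgroup G | L ≤ X ∧ X ≤ normalizer (L : Set G) ∧
    E ≤ normalizer (L : Set G) ∧ ∃ g ∈ E, ∃ x ∈ L, g * x ≠ x * g}).exists_minimal
      ⟨X, le_rfl, hXX, hEX, hmove⟩
  obtain ⟨⟨hLX, hXL, hEL, hLmove⟩, hLm⟩ := hLmin
  have hmin : ∀ L' : Subgroup G, L' ≤ L → X ≤ normalizer (L' : Set G) →
      E ≤ normalizer (L' : Set G) → L' ≠ L → ∀ g ∈ E, ∀ x ∈ L', g * x = x * g := by
    intro L' h1 h2 h3 hne g hg x hx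
    by_contra hc
    exact hne (le_antisymm h1 (hLm ⟨h1.trans hLX, h2, h3, g, hg, x, hx, hc⟩ h1))
  have hLp : IsPGroup 2 L := IsPGroup.to_le hX hLX
  have hL1 : L ≠ ⊥ := by
    intro he
    obtain ⟨g, _, x, hx, hne⟩ := hLmove
    rw [he, Subgroup.mem_bot] at hx
    apply hne
    rw [hx]; group
  -- the subgroup `L² [L, X]`
  have hYL : ⁅L, X⁆ ≤ L := commutator_le_of_le_normalizer hXL
  have hYne : ⁅L, X⁆ ≠ L := commutator_ne_of_isPGroup hLX hX hL1
  obtain ⟨S₂, hS₂⟩ : ∃ S₂, S₂ = closure {z : G | ∃ x ∈ L, z = x ^ 2} ⊔ ⁅L, X⁆ := ⟨_, rfl⟩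
  have hS₂L : S₂ ≤ L := by
    rw [hS₂]
    refine sup_le ?_ hYL
    rw [Subgroup.closure_le]
    rintro _ ⟨x, hx, rfl⟩
    exact L.pow_mem hx 2
  have hS₂ne : S₂ ≠ L := by
    have hYn : (⁅L, X⁆.subgroupOf L).Normal := by
      constructor
      intro n hn g
      rw [Subgroup.mem_subgroupOf] at hn ⊢
      exact Subgroup.le_normalizer_iff.mp (le_normalizer_commutator_right L X) g (hLX g.2) n hn
    haveI := hYn
    obtain ⟨R, hR1, hR2, hR3⟩ := abstract_squares (⁅L, X⁆.subgroupOf L) (by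
        intro a b
        rw [Subgroup.mem_subgroupOf]
        exact Subgroup.commutator_mem_commutator a.2 (hLX b.2)) (by
        intro he
        apply hYne
        exact le_antisymm hYL ((Subgroup.subgroupOf_eq_top).mp he)) hLp
    have hle : S₂ ≤ R.map L.subtype := by
      rw [hS₂]
      refine sup_le ?_ ?_
      · rw [Subgroup.closure_le]
        rintro _ ⟨x, hx, rfl⟩
        exact ⟨⟨x, hx⟩ ^ 2, hR3 _, rfl⟩
      · intro y hy
        exact ⟨⟨y, hYL hy⟩, hR2 hy, rfl⟩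
    intro he
    apply hR1
    rw [eq_top_iff]
    intro y _
    have h1 : (y : G) ∈ S₂ := by rw [he]; exact y.2
    obtain ⟨y', hy', he'⟩ := hle h1
    have : y' = y := Subtype.ext he'
    rwa [← this]
  have hS₂inv : ∀ T : Subgroup G, T ≤ normalizer (L : Set G) → T ≤ normalizer (X : Set G) →
      T ≤ normalizer (S₂ : Set G) := by
    intro T h1 h2
    rw [hS₂]
    refine le_normalizer_sup (le_normalizer_closure ?_) (le_normalizer_commutator_of_le h1 h2)
    rintro t ht _ ⟨x, hx, rfl⟩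
    exact ⟨t * x * t⁻¹, Subgroup.le_normalizer_iff.mp h1 t ht x hx, by rw [conj_pow]⟩
  have hS₂E : ∀ g ∈ E, ∀ x ∈ S₂, g * x = x * g :=
    hmin S₂ hS₂L (hS₂inv X hXL hXX) (hS₂inv E hEL hEX) hS₂ne
  have hsqT : ∀ x ∈ L, ∀ g ∈ E, g * x ^ 2 = x ^ 2 * g := by
    intro x hx g hg
    refine hS₂E g hg _ ?_
    rw [hS₂]
    exact Subgroup.mem_sup_left (Subgroup.subset_closure ⟨x, hx, rfl⟩)
  have hcT : ∀ x ∈ L, ∀ n ∈ X, ∀ g ∈ E, g * ⁅x, n⁆ = ⁅x, n⁆ * g := by
    intro x hx n hn g hg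
    refine hS₂E g hg _ ?_
    rw [hS₂]
    exact Subgroup.mem_sup_right (Subgroup.commutator_mem_commutator hx hn)
  -- fixed points
  have hfixL : ∀ g ∈ E, (∃ x ∈ L, g * x ≠ x * g) → ∀ c ∈ L, g * c = c * g →
      ∀ g' ∈ E, g' * c = c * g' := by
    intro g hg ⟨x, hx, hne⟩ c hc hgc g' hg'
    have hC : L ⊓ centralizer ({g} : Set G) ≠ L := by
      intro he
      have h1 : x ∈ L ⊓ centralizer ({g} : Set G) := by rw [he]; exact hx
      exact hne ((Subgroup.mem_centralizer_iff.mp h1.2) g rfl)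
    have hS₂C : S₂ ≤ centralizer ({g} : Set G) := by
      intro y hy
      rw [Subgroup.mem_centralizer_iff]
      rintro t rfl
      exact hS₂E _ hg y hy
    have hXC : X ≤ normalizer ((L ⊓ centralizer ({g} : Set G) : Subgroup G) : Set G) := by
      rw [Subgroup.le_normalizer_iff]
      intro n hn z hz
      refine ⟨Subgroup.le_normalizer_iff.mp hXL n hn z hz.1, ?_⟩
      have h1 : ⁅z, n⁆ ∈ S₂ := by
        rw [hS₂]
        exact Subgroup.mem_sup_right (Subgroup.commutator_mem_commutator hz.1 hn)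
      have e : n * z * n⁻¹ = ⁅z, n⁆⁻¹ * z := by
        rw [commutatorElement_def]; group
      rw [e]
      exact Subgroup.mul_mem _ (Subgroup.inv_mem _ (hS₂C h1)) hz.2
    have hEC : E ≤ normalizer ((L ⊓ centralizer ({g} : Set G) : Subgroup G) : Set G) :=
      le_normalizer_inf hEL (le_normalizer_centralizer_singleton (fun t ht => hE.comm t ht g hg))
    refine hmin _ inf_le_left hXC hEC hC g' hg' c
      (Subgroup.mem_inf.mpr ⟨hc, Subgroup.mem_centralizer_iff.mpr ?_⟩)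
    rintro t rfl
    exact hgc
  -- the kernel `H`
  obtain ⟨H, hH⟩ : ∃ H, H = E ⊓ centralizer (L : Set G) := ⟨_, rfl⟩
  have hHE : H ≤ E := by rw [hH]; exact inf_le_left
  have hHL : ∀ h ∈ H, ∀ x ∈ L, h * x = x * h := by
    intro h hh x hx
    rw [hH] at hh
    exact ((Subgroup.mem_centralizer_iff.mp hh.2) x hx).symm
  have hnotH : ∀ g ∈ E, g ∉ H → ∃ x ∈ L, g * x ≠ x * g := by
    intro g hg hgH
    by_contra hc
    push Not at hc
    apply hgH
    rw [hH]
    refine Subgroup.mem_inf.mpr ⟨hg, Subgroup.mem_centralizer_iff.mpr ?_⟩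
    intro x hx
    exact (hc x hx).symm
  have hq : p.Coprime (Nat.card L) := by
    obtain ⟨k, hk⟩ := IsPGroup.iff_card.mp hLp
    rw [hk]
    exact Nat.Coprime.pow_right k ((Nat.coprime_primes hpp.out Nat.prime_two).mpr hp)
  have hEsup : ∀ d ∈ E, d ∉ H → H ⊔ zpowers d = E := by
    intro d hd hdH
    apply le_antisymm (sup_le hHE (by rw [Subgroup.zpowers_le]; exact hd))
    intro a ha
    by_contra hna
    obtain ⟨x, hx, hne⟩ := hnotH d hd hdH
    have hZ : ∀ g ∈ E, g ∉ H → L ⊓ centralizer ({g} : Set G) ≤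
        L ⊓ centralizer (E : Set G) := by
      intro g hg hgH c hc
      refine Subgroup.mem_inf.mpr ⟨hc.1, Subgroup.mem_centralizer_iff.mpr ?_⟩
      intro g' hg'
      refine hfixL g hg (hnotH g hg hgH) c hc.1 ?_ g' hg'
      exact (Subgroup.mem_centralizer_iff.mp hc.2) g rfl
    have hgen := generation (q := p) L (L ⊓ centralizer (E : Set G)) E hEL
      (IsPGroup.coprime_card_of_ne p 2 hp _ _ hE.isPGroup hLp)
      (Or.inr (isSolvable_of_isPGroup hLp)) hq ha hd (hE.comm a ha d hd)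
      (by rw [hE.pow a ha]; exact Subgroup.one_mem _)
      (by rw [hE.pow d hd]; exact Subgroup.one_mem _)
      inf_le_left (hZ d hd hdH)
      (by
        intro j
        refine hZ _ (E.mul_mem ha (E.pow_mem hd j)) ?_
        intro hj
        apply hna
        have e : a = (a * d ^ j) * (d ^ j)⁻¹ := by group
        rw [e]
        exact Subgroup.mul_mem_sup hj (Subgroup.inv_mem _ (Subgroup.pow_mem _
          (Subgroup.mem_zpowers d) j)))
    have h1 : x ∈ L ⊓ centralizer (E : Set G) := by rw [hgen]; exact hx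
    exact hne ((Subgroup.mem_centralizer_iff.mp h1.2) d hd)
  obtain ⟨d, hd, x₀, hx₀, hdx₀⟩ := hLmove
  have hdH : d ∉ H := by
    intro h
    exact hdx₀ (hHL d h x₀ hx₀)
  have hEH : EA p H := hE.mono hHE
  have hcardH : Nat.card E = Nat.card H * p := by
    have := (EA.sup_zpowers hEH (hE.pow d hd) hdH (fun e he => hE.comm d hd e (hHE he))).2
    rwa [hEsup d hd hdH] at this
  have hr1 : r ≠ 0 := by omega
  have hE1 : E ≠ ⊥ := by
    intro he
    rw [he, Subgroup.card_bot] at hcard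
    have : 1 < p ^ r := Nat.one_lt_pow hr1 hp1
    omega
  -- the section `Λ`
  obtain ⟨Λ, hΛ⟩ : ∃ Λ, Λ = ⁅L, zpowers d⁆ := ⟨_, rfl⟩
  have hzd : zpowers d ≤ normalizer (L : Set G) := by
    rw [Subgroup.zpowers_le]; exact hEL hd
  have hdp : d ^ p = 1 := hE.pow d hd
  have hdp' : IsPGroup p (zpowers d) := by
    have : d ^ p ^ 1 = 1 := by rw [pow_one]; exact hdp
    exact zpowers_isPGroup this
  have hΛL : Λ ≤ L := by rw [hΛ]; exact commutator_le_of_le_normalizer hzd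
  have hΛX : Λ ≤ X := hΛL.trans hLX
  have hEzd : E ≤ normalizer ((zpowers d : Subgroup G) : Set G) := by
    rw [Subgroup.le_normalizer_iff]
    rintro e he _ ⟨k, rfl⟩
    have h1 : Commute e (d ^ k) := Commute.zpow_right (hE.comm e he d hd) k
    show e * d ^ k * e⁻¹ ∈ _
    rw [h1.eq, mul_assoc, mul_inv_cancel, mul_one]
    exact Subgroup.zpow_mem _ (Subgroup.mem_zpowers d) k
  have hΛE : E ≤ normalizer (Λ : Set G) := by
    rw [hΛ]; exact le_normalizer_commutator_of_le hEL hEzd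
  have hcc : ⁅Λ, zpowers d⁆ = Λ := by
    rw [hΛ]
    exact commutator_commutator_eq hzd (IsPGroup.coprime_card_of_ne p 2 hp _ _ hdp' hLp)
      (Or.inr (isSolvable_of_isPGroup hLp))
  have hΛ1 : Λ ≠ ⊥ := by
    intro he
    apply hdx₀
    have h1 : ⁅x₀, d⁆ ∈ Λ := by
      rw [hΛ]
      exact Subgroup.commutator_mem_commutator hx₀ (Subgroup.mem_zpowers d)
    rw [he, Subgroup.mem_bot, commutatorElement_eq_one_iff_mul_comm] at h1
    exact h1.symm
  have hgen : ∀ g ∈ E, g ∉ H → ⁅Λ, zpowers g⁆ = Λ := by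
    intro g hg hgH
    apply le_antisymm
    · apply commutator_le_of_le_normalizer
      rw [Subgroup.zpowers_le]; exact hΛE hg
    · conv_lhs => rw [← hcc]
      apply commutator_zpowers_le (hΛE hd)
      intro z hz
      have hdmem : d ∈ H ⊔ zpowers g := by rw [hEsup g hg hgH]; exact hd
      have hnz : zpowers g ≤ normalizer (H : Set G) := by
        rw [Subgroup.le_normalizer_iff]
        rintro _ ⟨k, rfl⟩ h hh
        have h1 : Commute (g ^ k) h := Commute.zpow_left (hE.comm g hg h (hHE hh)) k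
        show g ^ k * h * (g ^ k)⁻¹ ∈ H
        rw [h1.eq, mul_assoc, mul_inv_cancel, mul_one]
        exact hh
      obtain ⟨h, hh, t, ht, hdeq⟩ := exists_mul_of_mem_sup hnz hdmem
      have htE : t ∈ E := (Subgroup.zpowers_le.mpr hg) ht
      have hmem : ⁅z, t⁆ ∈ ⁅Λ, zpowers g⁆ := Subgroup.commutator_mem_commutator hz ht
      have hle : ⁅Λ, zpowers g⁆ ≤ Λ := by
        apply commutator_le_of_le_normalizer
        rw [Subgroup.zpowers_le]; exact hΛE hg
      have hmemL : ⁅z, t⁆ ∈ L := hΛL (hle hmem)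
      have e : ⁅z, d⁆ = ⁅z, t⁆ := by
        have h1 : z * h = h * z := (hHL h hh z (hΛL hz)).symm
        have h2 : h * ⁅z, t⁆ = ⁅z, t⁆ * h := hHL h hh _ hmemL
        calc ⁅z, d⁆ = z * h * t * z⁻¹ * t⁻¹ * h⁻¹ := by
              rw [hdeq, commutatorElement_def]; group
          _ = h * z * t * z⁻¹ * t⁻¹ * h⁻¹ := by rw [h1]
          _ = h * ⁅z, t⁆ * h⁻¹ := by rw [commutatorElement_def]; group
          _ = ⁅z, t⁆ := by rw [h2]; group
      rw [e]
      exact hmem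
  -- `Λ` centralizes `T = L ∩ C(E)`
  have hΛT : ∀ x ∈ Λ, ∀ t ∈ L, (∀ g ∈ E, g * t = t * g) → x * t = t * x := by
    have h1 : ⁅⁅zpowers d, L ⊓ centralizer (E : Set G)⁆, L⁆ = ⊥ := by
      have h2 : ⁅zpowers d, L ⊓ centralizer (E : Set G)⁆ = ⊥ := by
        rw [Subgroup.commutator_eq_bot_iff_le_centralizer, Subgroup.zpowers_le,
          Subgroup.mem_centralizer_iff]
        intro t ht
        exact ((Subgroup.mem_centralizer_iff.mp ht.2) d hd).symm
      rw [h2, Subgroup.commutator_bot_left]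
    have h2 : ⁅⁅L ⊓ centralizer (E : Set G), L⁆, zpowers d⁆ = ⊥ := by
      rw [Subgroup.commutator_eq_bot_iff_le_centralizer]
      intro y hy
      have h3 : y ∈ ⁅L, X⁆ := Subgroup.commutator_mono inf_le_left hLX hy
      have h4 : y ∈ S₂ := by
        rw [hS₂]; exact Subgroup.mem_sup_right h3
      have h5 := hS₂E d hd y h4
      rw [Subgroup.mem_centralizer_iff]
      rintro _ ⟨k, rfl⟩
      exact (Commute.zpow_left h5 k).eq
    have h3 : ⁅⁅L, zpowers d⁆, L ⊓ centralizer (E : Set G)⁆ = ⊥ :=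
      Subgroup.commutator_commutator_eq_bot_of_rotate h1 h2
    rw [← hΛ, Subgroup.commutator_eq_bot_iff_le_centralizer] at h3
    intro x hx t htL ht
    have h4 : t ∈ L ⊓ centralizer (E : Set G) :=
      Subgroup.mem_inf.mpr ⟨htL, Subgroup.mem_centralizer_iff.mpr ht⟩
    exact ((Subgroup.mem_centralizer_iff.mp (h3 hx)) t h4).symm
  have hvE' : ∀ e ∈ E, v * e = e * v := fun e he => (hvE e he).symm
  have hU : ∀ u : G, (∀ g ∈ E, g * u = u * g) → u ^ 2 = 1 → u * v = v * u → u = 1 ∨ u = v := by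
    intro u hu hu2 huv
    exact unique_invol hR hE hE1 hcard hv2 hv1 hvE' hu2 (fun e he => (hu e he).symm) huv
  have hV : ∀ a b : G, (a = 1 ∨ a = v) → (b = 1 ∨ b = v) → (a * b = 1 ∨ a * b = v) := by
    rintro a b (rfl | rfl) (rfl | rfl)
    · left; simp
    · right; simp
    · right; simp
    · left; rw [← pow_two, hv2]
  -- commutators inside `Λ`
  have hc1 : ∀ x ∈ Λ, ∀ y ∈ Λ, ⁅x, y⁆ = 1 ∨ ⁅x, y⁆ = v := by
    intro x hx y hy
    refine hU _ (hcT x (hΛL hx) y (hΛX hy)) ?_ ?_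
    · apply commutator_sq_eq_one
      · exact hΛT x hx _ (hYL (Subgroup.commutator_mem_commutator (hΛL hx) (hΛX hy)))
          (hcT x (hΛL hx) y (hΛX hy))
      · exact hΛT y hy _ (L.pow_mem (hΛL hx) 2) (hsqT x (hΛL hx))
    · apply hvc
      have hxX := hΛX hx
      have hyX := hΛX hy
      rw [commutatorElement_def]
      exact X.mul_mem (X.mul_mem (X.mul_mem hxX hyX) (X.inv_mem hxX)) (X.inv_mem hyX)
  have hcX : ∀ x ∈ Λ, ∀ y ∈ Λ, ∀ n ∈ X, ⁅x, y⁆ * n = n * ⁅x, y⁆ := by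
    intro x hx y hy n hn
    rcases hc1 x hx y hy with h | h
    · rw [h]; group
    · rw [h]; exact (hvc n hn).symm
  -- squares
  have hmulsq : ∀ x ∈ Λ, ∀ z ∈ Λ, (x * z) ^ 2 = ⁅z, x⁆ * (x ^ 2 * z ^ 2) := by
    intro x hx z hz
    have h1 : z * x = ⁅z, x⁆ * (x * z) := by
      rw [commutatorElement_def]; group
    have h2 := hcX z hz x hx x (hΛX hx)
    calc (x * z) ^ 2 = x * (z * x) * z := by rw [pow_two]; group
      _ = x * (⁅z, x⁆ * (x * z)) * z := by rw [← h1]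
      _ = (x * ⁅z, x⁆) * x * z * z := by group
      _ = (⁅z, x⁆ * x) * x * z * z := by rw [h2]
      _ = ⁅z, x⁆ * (x ^ 2 * z ^ 2) := by rw [pow_two, pow_two]; group
  obtain ⟨Psq, hPsq⟩ : ∃ Psq : Subgroup G, ∀ x, x ∈ Psq ↔ x ∈ Λ ∧ (x ^ 2 = 1 ∨ x ^ 2 = v) :=
    ⟨{ carrier := {x | x ∈ Λ ∧ (x ^ 2 = 1 ∨ x ^ 2 = v)}
       one_mem' := ⟨Λ.one_mem, Or.inl (one_pow 2)⟩
       mul_mem' := by
         rintro a b ⟨ha, ha2⟩ ⟨hb, hb2⟩
         refine ⟨Λ.mul_mem ha hb, ?_⟩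
         rw [hmulsq a ha b hb]
         exact hV _ _ (hc1 b hb a ha) (hV _ _ ha2 hb2)
       inv_mem' := by
         rintro a ⟨ha, ha2⟩
         refine ⟨Λ.inv_mem ha, ?_⟩
         rw [inv_pow]
         rcases ha2 with h | h
         · left; rw [h, inv_one]
         · right; rw [h]
           exact inv_eq_of_mul_eq_one_left (by rw [← pow_two, hv2]) }, fun x => Iff.rfl⟩
  have hsq : ∀ x ∈ Λ, x ^ 2 = 1 ∨ x ^ 2 = v := by
    have hle : ⁅Λ, zpowers d⁆ ≤ Psq := by
      apply commutator_zpowers_le (hΛE hd)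
      intro z hz
      have hz' : d * z * d⁻¹ ∈ Λ := Subgroup.le_normalizer_iff.mp hΛE d hd z hz
      have hz'' : (d * z * d⁻¹)⁻¹ ∈ Λ := Λ.inv_mem hz'
      have e : ⁅z, d⁆ = z * (d * z * d⁻¹)⁻¹ := by
        rw [commutatorElement_def]; group
      rw [hPsq, e]
      refine ⟨Λ.mul_mem hz hz'', ?_⟩
      rw [hmulsq z hz _ hz'']
      have h1 : (d * z * d⁻¹) ^ 2 = z ^ 2 := by
        rw [conj_pow, hsqT z (hΛL hz) d hd]; group
      rw [inv_pow, h1, mul_inv_cancel, mul_one]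
      exact hc1 _ hz'' z hz
    intro x hx
    rw [← hcc] at hx
    exact ((hPsq x).mp (hle hx)).2
  -- commutators with `X`
  have hc2 : ∀ x ∈ Λ, ∀ n ∈ X, ⁅x, n⁆ = 1 ∨ ⁅x, n⁆ = v := by
    intro x hx n hn
    refine hU _ (hcT x (hΛL hx) n hn) ?_ ?_
    · apply commutator_sq_eq_one
      · exact hΛT x hx _ (hYL (Subgroup.commutator_mem_commutator (hΛL hx) hn))
          (hcT x (hΛL hx) n hn)
      · rcases hsq x hx with h | h
        · rw [h]; group
        · rw [h]; exact (hvc n hn)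
    · apply hvc
      have hxX := hΛX hx
      rw [commutatorElement_def]
      exact X.mul_mem (X.mul_mem (X.mul_mem hxX hn) (X.inv_mem hxX)) (X.inv_mem hn)
  -- non-abelian
  have hrH : ∃ a, Nat.card H = p ^ a ∧ r ≤ a + 1 := by
    obtain ⟨a, ha⟩ := hEH.exists_card
    refine ⟨a, ha, ?_⟩
    rw [hcard, ha, ← pow_succ] at hcardH
    have := Nat.pow_right_injective hpp.out.two_le hcardH
    omega
  obtain ⟨a, ha, hra⟩ := hrH
  have hH1 : H ≠ ⊥ := by
    intro he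
    rw [he, Subgroup.card_bot] at ha
    have h1 : a ≠ 0 := by omega
    have : 1 < p ^ a := Nat.one_lt_pow h1 hp1
    omega
  have hNR : NoRank3 H := noRank3_of hR hEH hH1 ha hra
  have hp2 : Nat.Coprime 2 p := (Nat.coprime_primes Nat.prime_two hpp.out).mpr hp.symm
  have hA : ∀ x ∈ Λ,
      x * (d * x * d⁻¹) = (d * x * d⁻¹) * x →
      x * (d * (d * x * d⁻¹) * d⁻¹) = (d * (d * x * d⁻¹) * d⁻¹) * x → d * x = x * d := by
    intro x hx h01 h02
    refine lemma_A hp2 hNR hdp (fun h hh => hE.comm d hd h (hHE hh)) (hvE d hd) hv2 hv1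
      (fun h hh => (hHL h hh x (hΛL hx)).symm) (fun h hh => hvE' h (hHE hh)) (hvc x (hΛX hx))
      (hsq x hx) h01 h02
  have hnonab : ∃ x ∈ Λ, ∃ y ∈ Λ, x * y ≠ y * x := by
    by_contra hc
    push Not at hc
    apply hΛ1
    rw [eq_bot_iff, ← hcc]
    apply commutator_zpowers_le (hΛE hd)
    intro z hz
    have hz1 : d * z * d⁻¹ ∈ Λ := Subgroup.le_normalizer_iff.mp hΛE d hd z hz
    have hz2 : d * (d * z * d⁻¹) * d⁻¹ ∈ Λ := Subgroup.le_normalizer_iff.mp hΛE d hd _ hz1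
    have h1 := hA z hz (hc z hz _ hz1) (hc z hz _ hz2)
    rw [Subgroup.mem_bot, commutatorElement_eq_one_iff_mul_comm]
    exact h1.symm
  have hvΛ : v ∈ Λ := by
    obtain ⟨x, hx, y, hy, hne⟩ := hnonab
    rcases hc1 x hx y hy with h | h
    · exfalso
      rw [commutatorElement_eq_one_iff_mul_comm] at h
      exact hne h
    · rw [← h, commutatorElement_def]
      exact Λ.mul_mem (Λ.mul_mem (Λ.mul_mem hx hy) (Λ.inv_mem hx)) (Λ.inv_mem hy)
  have hfix : ∀ g ∈ E, g ∉ H → ∀ x ∈ Λ, g * x = x * g → x = 1 ∨ x = v := by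
    intro g hg hgH
    exact fitting_mod hvΛ hv2 (fun x hx => hvc x (hΛX hx)) hc1 (hΛE hg) (hvE g hg) (hgen g hg hgH)
  have hcenter : ∀ x ∈ Λ, (∀ y ∈ Λ, x * y = y * x) → x = 1 ∨ x = v := by
    intro x hx hc
    have hz1 : d * x * d⁻¹ ∈ Λ := Subgroup.le_normalizer_iff.mp hΛE d hd x hx
    have hz2 : d * (d * x * d⁻¹) * d⁻¹ ∈ Λ := Subgroup.le_normalizer_iff.mp hΛE d hd _ hz1
    exact hfix d hd hdH x hx (hA x hx (hc _ hz1) (hc _ hz2))
  exact ⟨H, Λ, hHE, hcardH, hΛX, fun h hh x hx => hHL h hh x (hΛL hx), hΛE, hgen, hfix, hvΛ, hsq,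
    hc2, hnonab, hcenter⟩

/-! ### Consequences -/

/-- The commutators of `Λ` with a group generated by its commutators with a `g ∈ H` vanish. -/
theorem Comp.comm_of_gen [Finite G] {p : ℕ} {X E H Λ : Subgroup G} {v : G}
    (hC : Comp p X E v H Λ) (hvc : ∀ x ∈ X, x * v = v * x) {N : Subgroup G} {g : G} (hNX : N ≤ X)
    (hg : g ∈ H) (hgv : g * v = v * g) (hN : ⁅N, zpowers g⁆ = N) :
    ∀ x ∈ Λ, ∀ n ∈ N, x * n = n * x := by
  intro x hx n hn
  have hgN : g ∈ normalizer (N : Set G) := by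
    have h1 := le_normalizer_commutator_right N (zpowers g) (Subgroup.mem_zpowers g)
    rwa [hN] at h1
  have hle : ⁅N, zpowers g⁆ ≤ centralizer ({x} : Set G) := by
    apply commutator_zpowers_le hgN
    intro z hz
    rw [Subgroup.mem_centralizer_iff]
    rintro t rfl
    have hz' : g * z * g⁻¹ ∈ N := Subgroup.le_normalizer_iff.mp (le_refl _) g hgN z hz
    have hgx : g * t = t * g := hC.centr g hg t hx
    have hc := hC.comm t hx z (hNX hz)
    obtain ⟨c, hcdef⟩ : ∃ c, c = ⁅t, z⁆ := ⟨_, rfl⟩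
    rw [← hcdef] at hc
    have hcX : ∀ n ∈ X, c * n = n * c := by
      intro n hn
      rcases hc with h | h
      · rw [h]; group
      · rw [h]; exact (hvc n hn).symm
    have hcg : g * c = c * g := by
      rcases hc with h | h
      · rw [h]; group
      · rw [h]; exact hgv
    have h1 : t * z * t⁻¹ = c * z := by
      rw [hcdef, commutatorElement_def]; group
    have hgxi : t⁻¹ * g = g * t⁻¹ := by
      have : Commute g t := hgx
      exact (Commute.inv_right this).eq.symm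
    have h2 : t * (g * z * g⁻¹) * t⁻¹ = c * (g * z * g⁻¹) := by
      calc t * (g * z * g⁻¹) * t⁻¹ = (t * g) * z * g⁻¹ * t⁻¹ := by group
        _ = (g * t) * z * g⁻¹ * t⁻¹ := by rw [hgx]
        _ = g * (t * z * t⁻¹) * (t * g⁻¹ * t⁻¹) := by group
        _ = g * (c * z) * (t * g⁻¹ * t⁻¹) := by rw [h1]
        _ = (g * c) * z * (t * g⁻¹ * t⁻¹) := by group
        _ = (c * g) * z * (t * g⁻¹ * t⁻¹) := by rw [hcg]
        _ = c * (g * z * (t * g⁻¹ * t⁻¹)) := by group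
        _ = c * (g * z * g⁻¹) := by
            have : t * g⁻¹ * t⁻¹ = g⁻¹ := by
              have h5 : Commute t g⁻¹ := (Commute.inv_right (Commute.symm hgx))
              rw [h5.eq]; group
            rw [this]
    have hzX : z * (g * z * g⁻¹)⁻¹ ∈ X := X.mul_mem (hNX hz) (X.inv_mem (hNX hz'))
    have h3 := hcX _ hzX
    have e : ⁅z, g⁆ = z * (g * z * g⁻¹)⁻¹ := by
      rw [commutatorElement_def]; group
    rw [e]
    have h4 : t * (z * (g * z * g⁻¹)⁻¹) * t⁻¹ = z * (g * z * g⁻¹)⁻¹ := by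
      calc t * (z * (g * z * g⁻¹)⁻¹) * t⁻¹
          = (t * z * t⁻¹) * (t * (g * z * g⁻¹) * t⁻¹)⁻¹ := by group
        _ = (c * z) * (c * (g * z * g⁻¹))⁻¹ := by rw [h1, h2]
        _ = c * (z * (g * z * g⁻¹)⁻¹) * c⁻¹ := by group
        _ = (z * (g * z * g⁻¹)⁻¹) * c * c⁻¹ := by rw [h3]
        _ = z * (g * z * g⁻¹)⁻¹ := by group
    calc t * (z * (g * z * g⁻¹)⁻¹) = t * (z * (g * z * g⁻¹)⁻¹) * t⁻¹ * t := by group
      _ = z * (g * z * g⁻¹)⁻¹ * t := by rw [h4]
  rw [hN] at hle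
  exact ((Subgroup.mem_centralizer_iff.mp (hle hn)) x rfl)

theorem Comp.sup_zpowers_eq [Finite G] {p : ℕ} [Fact p.Prime] {X E H Λ : Subgroup G} {v : G}
    (hC : Comp p X E v H Λ) (hE : EA p E) {g : G} (hg : g ∈ E) (hgH : g ∉ H) :
    H ⊔ zpowers g = E := by
  apply Subgroup.eq_of_le_of_card_ge (sup_le hC.H_le (by rw [Subgroup.zpowers_le]; exact hg))
  rw [(EA.sup_zpowers (hE.mono hC.H_le) (hE.pow g hg) hgH
    (fun e he => hE.comm g hg e (hC.H_le he))).2, hC.card_H]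

/-- **The pair lemma.** -/
theorem Comp.pair [Finite G] {p : ℕ} {X E H Λ : Subgroup G} {v : G}
    (hC : Comp p X E v H Λ) (hvc : ∀ x ∈ X, x * v = v * x) (hv2 : v ^ 2 = 1) (hv1 : v ≠ 1)
    (hNR : NoRank3 H) (hvE : ∀ e ∈ E, e * v = v * e) (hp2 : Nat.Coprime 2 p)
    {d : G} (hd : d ∈ E) (hdH : d ∉ H) (hdp : d ^ p = 1) :
    ∃ x ∈ Λ, ∃ y ∈ Λ, x ^ 2 = v ∧ y ^ 2 = v ∧ ⁅x, y⁆ = v := by
  have hvΛ : ∀ x ∈ Λ, x * v = v * x := fun x hx => hvc x (hC.L_le hx)
  have hvv : v * v = 1 := by rw [← pow_two, hv2]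
  have hcm : ∀ a ∈ Λ, ∀ b ∈ Λ, a * b ≠ b * a → ⁅a, b⁆ = v := by
    intro a ha b hb hne
    rcases hC.comm a ha b (hC.L_le hb) with h | h
    · exfalso
      rw [commutatorElement_eq_one_iff_mul_comm] at h
      exact hne h
    · exact h
  have hcmc : ∀ a ∈ Λ, ∀ b ∈ Λ, ∀ n ∈ X, ⁅a, b⁆ * n = n * ⁅a, b⁆ := by
    intro a ha b hb n hn
    rcases hC.comm a ha b (hC.L_le hb) with h | h
    · rw [h]; group
    · rw [h]; exact (hvc n hn).symm
  have hmulsq : ∀ x ∈ Λ, ∀ z ∈ Λ, (x * z) ^ 2 = ⁅z, x⁆ * (x ^ 2 * z ^ 2) := by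
    intro x hx z hz
    have h1 : z * x = ⁅z, x⁆ * (x * z) := by
      rw [commutatorElement_def]; group
    have h2 := hcmc z hz x hx x (hC.L_le hx)
    calc (x * z) ^ 2 = x * (z * x) * z := by rw [pow_two]; group
      _ = x * (⁅z, x⁆ * (x * z)) * z := by rw [← h1]
      _ = (x * ⁅z, x⁆) * x * z * z := by group
      _ = (⁅z, x⁆ * x) * x * z * z := by rw [h2]
      _ = ⁅z, x⁆ * (x ^ 2 * z ^ 2) := by rw [pow_two, pow_two]; group
  by_cases hcase : ∃ u ∈ Λ, u ^ 2 = 1 ∧ u ≠ 1 ∧ u ≠ v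
  · obtain ⟨u, hu, hu2, hu1, huv⟩ := hcase
    -- involutions commuting with `u`
    have hΛH : ∀ x ∈ Λ, ∀ h ∈ H, x * h = h * x := fun x hx h hh => (hC.centr h hh x hx).symm
    have hinv : ∀ t ∈ Λ, t ^ 2 = 1 → t * u = u * t → t = 1 ∨ t = v ∨ t = u ∨ t = u * v := by
      intro t ht ht2 htu
      by_contra hc
      push Not at hc
      obtain ⟨h1, h2, h3, h4⟩ := hc
      obtain ⟨h5, h6⟩ := three_invol hv2 hu2 ht2 (hvΛ u hu).symm (hvΛ t ht).symm htu.symm hv1 hu1 huv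
        h1 h2 h3 h4
      refine hNR _ h5 h6 (sup_le (sup_le (zpowers_le_centralizer ?_) (zpowers_le_centralizer ?_))
        (zpowers_le_centralizer ?_))
      · exact hΛH v hC.v_mem
      · exact hΛH u hu
      · exact hΛH t ht
    by_cases hcase2 : ∃ z ∈ Λ, z * u = u * z ∧ z ≠ 1 ∧ z ≠ v ∧ z ≠ u ∧ z ≠ u * v
    · obtain ⟨z, hz, hzu, h1, h2, h3, h4⟩ := hcase2
      have hz2 : z ^ 2 = v := by
        rcases hC.sq z hz with h | h
        · exfalso
          rcases hinv z hz h hzu with h5 | h5 | h5 | h5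
          · exact h1 h5
          · exact h2 h5
          · exact h3 h5
          · exact h4 h5
        · exact h
      have hnc : ¬ ∀ y ∈ Λ, z * y = y * z := by
        intro hall
        rcases hC.center z hz hall with h | h
        · exact h1 h
        · exact h2 h
      push Not at hnc
      obtain ⟨t, ht, hzt⟩ := hnc
      have hzt' := hcm z hz t ht hzt
      rcases hC.sq t ht with ht2 | ht2
      · -- `t` is an involution: use `t u`
        have htu : t * u ≠ u * t := by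
          intro htu
          apply hzt
          rcases hinv t ht ht2 htu with h | h | h | h
          · rw [h]; group
          · rw [h]; exact hvΛ z hz
          · rw [h]; exact hzu
          · rw [h, ← mul_assoc, hzu, mul_assoc, hvΛ z hz, mul_assoc]
        have hut := hcm u hu t ht htu.symm
        refine ⟨z, hz, t * u, Λ.mul_mem ht hu, hz2, ?_, ?_⟩
        · rw [hmulsq t ht u hu, hut, ht2, hu2]; group
        · have h5 : z * t = v * t * z := by
            rw [← hzt', commutatorElement_def]; group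
          have h6 : z * (t * u) = v * (t * u) * z := by
            calc z * (t * u) = (z * t) * u := by group
              _ = v * t * z * u := by rw [h5]
              _ = v * t * (z * u) := by group
              _ = v * t * (u * z) := by rw [hzu]
              _ = v * (t * u) * z := by group
          rw [commutatorElement_def, h6]; group
      · exact ⟨z, hz, t, ht, hz2, ht2, hzt'⟩
    · exfalso
      push Not at hcase2
      have hcen : ∀ z ∈ Λ, z * u = u * z → z = 1 ∨ z = v ∨ z = u ∨ z = u * v := by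
        intro z hz hzu
        by_contra hc
        push Not at hc
        exact hc.2.2.2 (hcase2 z hz hzu hc.1 hc.2.1 hc.2.2.1)
      have hcd : ∀ x ∈ Λ, d * x * d⁻¹ ∈ Λ := fun x hx =>
        Subgroup.le_normalizer_iff.mp hC.norm d hd x hx
      have hvd : d * v * d⁻¹ = v := by rw [hvE d hd]; group
      have hdinj : ∀ x : G, d * x * d⁻¹ = 1 → x = 1 := by
        intro x hx
        have h1 : x = d⁻¹ * (d * x * d⁻¹) * d := by group
        rw [h1, hx]; group
      have hdinjv : ∀ x : G, d * x * d⁻¹ = v → x = v := by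
        intro x hx
        have h1 : x = d⁻¹ * (d * x * d⁻¹) * d := by group
        rw [h1, hx, mul_assoc, ← hvE d hd]; group
      have hdu : d * u ≠ u * d := by
        intro h
        rcases hC.fix d hd hdH u hu h with h1 | h1
        · exact hu1 h1
        · exact huv h1
      have hu₁sq : (d * u * d⁻¹) ^ 2 = 1 := by rw [conj_pow, hu2]; group
      obtain ⟨u₁, hu₁⟩ : ∃ u₁, u₁ = d * u * d⁻¹ := ⟨_, rfl⟩
      obtain ⟨u₂, hu₂⟩ : ∃ u₂, u₂ = d * u₁ * d⁻¹ := ⟨_, rfl⟩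
      rw [← hu₁] at hu₁sq
      have hu₁Λ : u₁ ∈ Λ := by rw [hu₁]; exact hcd u hu
      have hu₂Λ : u₂ ∈ Λ := by rw [hu₂]; exact hcd u₁ hu₁Λ
      have hu₂sq : u₂ ^ 2 = 1 := by rw [hu₂, conj_pow, hu₁sq]; group
      have hd2 : u₂ ≠ u := by
        intro h
        apply hdu
        have h1 : Commute (d ^ 2) u := by
          show d ^ 2 * u = u * d ^ 2
          calc d ^ 2 * u = d * (d * u * d⁻¹) * d⁻¹ * d ^ 2 := by rw [pow_two]; group
            _ = u * d ^ 2 := by rw [← hu₁, ← hu₂, h]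
        exact (commute_of_pow_commute hdp hp2 h1).eq
      have hd4 : d * (d * u₂ * d⁻¹) * d⁻¹ ≠ u := by
        intro h
        apply hdu
        have h1 : Commute (d ^ 4) u := by
          show d ^ 4 * u = u * d ^ 4
          calc d ^ 4 * u = d * (d * (d * (d * u * d⁻¹) * d⁻¹) * d⁻¹) * d⁻¹ * d ^ 4 := by
                rw [show (4 : ℕ) = 2 + 2 from rfl, pow_add, pow_two]; group
            _ = u * d ^ 4 := by rw [← hu₁, ← hu₂, h]
        have h4 : Nat.Coprime 4 p := by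
          have : (4 : ℕ) = 2 ^ 2 := rfl
          rw [this]
          exact Nat.Coprime.pow_left 2 hp2
        exact (commute_of_pow_commute hdp h4 h1).eq
      have h1u : u₁ * u ≠ u * u₁ := by
        intro h
        rcases hcen u₁ hu₁Λ h with h1 | h1 | h1 | h1
        · exact hu1 (hdinj u (by rw [← hu₁]; exact h1))
        · exact huv (hdinjv u (by rw [← hu₁]; exact h1))
        · apply hdu
          rw [hu₁] at h1
          calc d * u = d * u * d⁻¹ * d := by group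
            _ = u * d := by rw [h1]
        · apply hd2
          rw [hu₂, h1]
          have e : d * (u * v) * d⁻¹ = d * u * d⁻¹ * (d * v * d⁻¹) := by group
          rw [e, hvd, ← hu₁, h1, mul_assoc, hvv, mul_one]
      have h2u : u₂ * u ≠ u * u₂ := by
        intro h
        rcases hcen u₂ hu₂Λ h with h1 | h1 | h1 | h1
        · apply hu1
          apply hdinj u
          rw [← hu₁]
          apply hdinj u₁
          rw [← hu₂]
          exact h1
        · apply huv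
          apply hdinjv u
          rw [← hu₁]
          apply hdinjv u₁
          rw [← hu₂]
          exact h1
        · exact hd2 h1
        · apply hd4
          rw [h1]
          have e : d * (d * (u * v) * d⁻¹) * d⁻¹ =
              d * (d * u * d⁻¹) * d⁻¹ * (d * (d * v * d⁻¹) * d⁻¹) := by group
          rw [e, hvd, hvd, ← hu₁, ← hu₂, h1, mul_assoc, hvv, mul_one]
      have hc1 : ⁅u, u₁⁆ = v := hcm u hu u₁ hu₁Λ (fun h => h1u h.symm)
      have hc2 : ⁅u, u₂⁆ = v := hcm u hu u₂ hu₂Λ (fun h => h2u h.symm)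
      have hc12 : ⁅u₂, u₁⁆ = v := by
        have h12 : u₁ * u₂ ≠ u₂ * u₁ := by
          intro h
          have h3 : ⁅u₁, u₂⁆ = 1 := by rwa [commutatorElement_eq_one_iff_mul_comm]
          have h4 : d * ⁅u, u₁⁆ * d⁻¹ = ⁅u₁, u₂⁆ := by
            rw [commutatorElement_def, commutatorElement_def, hu₂, hu₁]; group
          rw [h3, hc1, hvd] at h4
          exact hv1 h4
        exact hcm u₂ hu₂Λ u₁ hu₁Λ (fun h => h12 h.symm)
      have hs : u₁ * u₂ ∈ Λ := Λ.mul_mem hu₁Λ hu₂Λ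
      have hscomm : (u₁ * u₂) * u = u * (u₁ * u₂) := by
        have e1 : u * u₁ = v * u₁ * u := by
          rw [← hc1, commutatorElement_def]; group
        have e2 : u * u₂ = v * u₂ * u := by
          rw [← hc2, commutatorElement_def]; group
        calc (u₁ * u₂) * u = (v * v) * u₁ * u₂ * u := by rw [hvv]; group
          _ = v * (v * u₁) * u₂ * u := by group
          _ = v * (u₁ * v) * u₂ * u := by rw [hvΛ u₁ hu₁Λ]
          _ = v * u₁ * (v * u₂) * u := by group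
          _ = v * u₁ * (u * u₂) := by rw [e2]; group
          _ = (v * u₁ * u) * u₂ := by group
          _ = u * (u₁ * u₂) := by rw [← e1]; group
      have hssq : (u₁ * u₂) ^ 2 = v := by
        rw [hmulsq u₁ hu₁Λ u₂ hu₂Λ, hc12, hu₁sq, hu₂sq]; group
      rcases hcen _ hs hscomm with h | h | h | h
      · rw [h, one_pow] at hssq
        exact hv1 hssq.symm
      · rw [h, hv2] at hssq
        exact hv1 hssq.symm
      · rw [h, hu2] at hssq
        exact hv1 hssq.symm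
      · rw [h, hmulsq u hu v hC.v_mem, hu2, hv2] at hssq
        have h5 : ⁅v, u⁆ = 1 := by
          rw [commutatorElement_eq_one_iff_mul_comm]
          exact (hvΛ u hu).symm
        rw [h5] at hssq
        apply hv1
        rw [← hssq]; group
  · push Not at hcase
    obtain ⟨x, hx, y, hy, hxy⟩ := hC.nonab
    have hsq' : ∀ a ∈ Λ, a ≠ 1 → a ≠ v → a ^ 2 = v := by
      intro a ha h1 h2
      rcases hC.sq a ha with h | h
      · exact absurd (hcase a ha h h1) h2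
      · exact h
    refine ⟨x, hx, y, hy, hsq' x hx ?_ ?_, hsq' y hy ?_ ?_, hcm x hx y hy hxy⟩
    · rintro rfl; apply hxy; group
    · rintro rfl; exact hxy ((hvΛ y hy).symm)
    · rintro rfl; apply hxy; group
    · rintro rfl; exact hxy (hvΛ x hx)

/-- Products of pairs from commuting sections. -/
theorem pair_product [Finite G] {Λ₀ Λ₁ : Subgroup G} {v x₀ y₀ x₁ y₁ : G} (hv2 : v ^ 2 = 1)
    (hv1 : v ≠ 1) (hcomm : ∀ a ∈ Λ₀, ∀ b ∈ Λ₁, a * b = b * a)
    (hint : ∀ z ∈ Λ₀, z ∈ Λ₁ → z = 1 ∨ z = v) (hvΛ₀ : v ∈ Λ₀) (hvΛ₁ : v ∈ Λ₁)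
    (hx₀ : x₀ ∈ Λ₀) (hy₀ : y₀ ∈ Λ₀) (hx₁ : x₁ ∈ Λ₁) (hy₁ : y₁ ∈ Λ₁)
    (hx₀2 : x₀ ^ 2 = v) (hy₀2 : y₀ ^ 2 = v) (hxy₀ : ⁅x₀, y₀⁆ = v)
    (hx₁2 : x₁ ^ 2 = v) (hy₁2 : y₁ ^ 2 = v) (hxy₁ : ⁅x₁, y₁⁆ = v) :
    EA 2 (zpowers v ⊔ zpowers (x₀ * x₁) ⊔ zpowers (y₀ * y₁)) ∧
      Nat.card ↥(zpowers v ⊔ zpowers (x₀ * x₁) ⊔ zpowers (y₀ * y₁)) = 2 ^ 3 := by
  have hvv : v * v = 1 := by rw [← pow_two, hv2]
  have hx₀x₁ : Commute x₀ x₁ := hcomm x₀ hx₀ x₁ hx₁
  have hy₀y₁ : Commute y₀ y₁ := hcomm y₀ hy₀ y₁ hy₁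
  have hx₀y₁ : Commute x₀ y₁ := hcomm x₀ hx₀ y₁ hy₁
  have hy₀x₁ : Commute y₀ x₁ := hcomm y₀ hy₀ x₁ hx₁
  have hvx₀ : Commute v x₀ := (hcomm x₀ hx₀ v hvΛ₁).symm
  have hvy₀ : Commute v y₀ := (hcomm y₀ hy₀ v hvΛ₁).symm
  have hvx₁ : Commute v x₁ := hcomm v hvΛ₀ x₁ hx₁
  have hvy₁ : Commute v y₁ := hcomm v hvΛ₀ y₁ hy₁
  have hsq1 : (x₀ * x₁) ^ 2 = 1 := by
    rw [hx₀x₁.mul_pow, hx₀2, hx₁2, hvv]
  have hsq2 : (y₀ * y₁) ^ 2 = 1 := by
    rw [hy₀y₁.mul_pow, hy₀2, hy₁2, hvv]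
  have h0 : x₀ * y₀ = v * y₀ * x₀ := by
    rw [← hxy₀, commutatorElement_def]; group
  have h1 : x₁ * y₁ = v * y₁ * x₁ := by
    rw [← hxy₁, commutatorElement_def]; group
  have hcomme : (x₀ * x₁) * (y₀ * y₁) = (y₀ * y₁) * (x₀ * x₁) := by
    calc (x₀ * x₁) * (y₀ * y₁) = x₀ * (x₁ * y₀) * y₁ := by group
      _ = x₀ * (y₀ * x₁) * y₁ := by rw [hy₀x₁.eq]
      _ = (x₀ * y₀) * (x₁ * y₁) := by group
      _ = (v * y₀ * x₀) * (v * y₁ * x₁) := by rw [h0, h1]
      _ = v * y₀ * (x₀ * v) * y₁ * x₁ := by group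
      _ = v * y₀ * (v * x₀) * y₁ * x₁ := by rw [hvx₀.eq]
      _ = v * (y₀ * v) * x₀ * y₁ * x₁ := by group
      _ = v * (v * y₀) * x₀ * y₁ * x₁ := by rw [hvy₀.eq]
      _ = (v * v) * y₀ * (x₀ * y₁) * x₁ := by group
      _ = (v * v) * y₀ * (y₁ * x₀) * x₁ := by rw [hx₀y₁.eq]
      _ = (y₀ * y₁) * (x₀ * x₁) := by rw [hvv]; group
  have hbad : ∀ a ∈ Λ₀, a ^ 2 = v → a ∉ Λ₁ := by
    intro a ha ha2 ha1
    rcases hint a ha ha1 with h | h
    · rw [h, one_pow] at ha2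
      exact hv1 ha2.symm
    · rw [h, hv2] at ha2
      exact hv1 ha2.symm
  have hne1 : ∀ a ∈ Λ₀, a ^ 2 = v → ∀ b ∈ Λ₁, a * b ≠ 1 := by
    intro a ha ha2 b hb h
    apply hbad a ha ha2
    rw [eq_inv_of_mul_eq_one_left h]
    exact Λ₁.inv_mem hb
  have hne2 : ∀ a ∈ Λ₀, a ^ 2 = v → ∀ b ∈ Λ₁, a * b ≠ v := by
    intro a ha ha2 b hb h
    apply hbad a ha ha2
    have e : a = v * b⁻¹ := by rw [← h]; group
    rw [e]
    exact Λ₁.mul_mem hvΛ₁ (Λ₁.inv_mem hb)
  have hne3 : ∀ c ∈ Λ₁, y₀ * y₁ ≠ x₀ * c := by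
    intro c hc h
    have hmem0 : x₀⁻¹ * y₀ ∈ Λ₀ := Λ₀.mul_mem (Λ₀.inv_mem hx₀) hy₀
    have e : x₀⁻¹ * y₀ = c * y₁⁻¹ := by
      calc x₀⁻¹ * y₀ = x₀⁻¹ * (y₀ * y₁) * y₁⁻¹ := by group
        _ = x₀⁻¹ * (x₀ * c) * y₁⁻¹ := by rw [h]
        _ = c * y₁⁻¹ := by group
    have hmem1 : x₀⁻¹ * y₀ ∈ Λ₁ := by
      rw [e]; exact Λ₁.mul_mem hc (Λ₁.inv_mem hy₁)
    have hcc : x₀ * y₀ = y₀ * x₀ := by
      rcases hint _ hmem0 hmem1 with h3 | h3
      · have : y₀ = x₀ := by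
          rw [inv_mul_eq_one] at h3
          exact h3.symm
        rw [this]
      · have : y₀ = x₀ * v := by rw [← h3]; group
        rw [this, mul_assoc x₀ v x₀, hvx₀.eq]
    rw [commutatorElement_def, hcc] at hxy₀
    apply hv1
    rw [← hxy₀]; group
  exact three_invol hv2 hsq1 hsq2 (hvx₀.mul_right hvx₁).eq (hvy₀.mul_right hvy₁).eq hcomme hv1
    (hne1 x₀ hx₀ hx₀2 x₁ hx₁) (hne2 x₀ hx₀ hx₀2 x₁ hx₁) (hne1 y₀ hy₀ hy₀2 y₁ hy₁)
    (hne2 y₀ hy₀ hy₀2 y₁ hy₁) (hne3 x₁ hx₁)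
    (by
      have := hne3 (x₁ * v) (Λ₁.mul_mem hx₁ hvΛ₁)
      rwa [← mul_assoc] at this)

end Cfsg.Agent.Lib.KlingerMason
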