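/-
Klinger--Mason: the main argument.
-/
import Cfsg.Agent.Lib.KlingerMason.Comp

set_option autoImplicit false
open scoped commutatorElement Pointwise

namespace Cfsg.Agent.Lib.KlingerMason

open Cfsg Subgroup
open Cfsg.Agent.Lib.Coprime.Action Cfsg.Agent.Lib.Coprime.Generation

variable {G : Type*} [Group G]

/-- `O₂(N(⟨v⟩))`. -/
def Sv (v : G) : Subgroup G := coreK 2 (zpowers v)

theorem Sv_isPGroup [Finite G] (v : G) : IsPGroup 2 (Sv v) := coreK_isPGroup _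

theorem mem_Sv [Finite G] {v : G} (hv2 : v ^ 2 = 1) : v ∈ Sv v := by
  have h : v ^ 2 ^ 1 = 1 := by simpa using hv2
  exact le_coreK (zpowers_isPGroup h) (Subgroup.mem_zpowers v)

theorem Sv_comm {v : G} (hv2 : v ^ 2 = 1) (hv1 : v ≠ 1) : ∀ x ∈ Sv v, x * v = v * x := by
  intro x hx
  have h1 : x * v * x⁻¹ ∈ zpowers v :=
    Subgroup.le_normalizer_iff.mp (coreK_le_normalizer 2 (zpowers v)) x hx v (Subgroup.mem_zpowers v)
  rcases mem_zpowers_invol hv2 h1 with h | h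
  · exfalso
    apply hv1
    have : v = x⁻¹ * (x * v * x⁻¹) * x := by group
    rw [this, h]; group
  · calc x * v = x * v * x⁻¹ * x := by group
      _ = v * x := by rw [h]

theorem centralizer_singleton_le_normalizer_zpowers (v : G) :
    centralizer ({v} : Set G) ≤ normalizer ((zpowers v : Subgroup G) : Set G) := by
  rw [Subgroup.le_normalizer_iff]
  rintro c hc _ ⟨k, rfl⟩
  have h1 : Commute c v := ((Subgroup.mem_centralizer_iff.mp hc) v rfl).symm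
  have h2 : Commute c (v ^ k) := h1.zpow_right k
  show c * v ^ k * c⁻¹ ∈ _
  rw [h2.eq, mul_assoc, mul_inv_cancel, mul_one]
  exact Subgroup.zpow_mem _ (Subgroup.mem_zpowers v) k

theorem centralizer_le_normalizer_Sv (v : G) :
    centralizer ({v} : Set G) ≤ normalizer (Sv v : Set G) :=
  (centralizer_singleton_le_normalizer_zpowers v).trans (normalizer_le_normalizer_coreK 2 _)

theorem Sv_moved {p : ℕ} [Fact p.Prime] [Finite G] (hp : p ≠ 2) (hS2 : SelfCent 2 G) {v g : G}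
    (hv2 : v ^ 2 = 1) (hv1 : v ≠ 1) (hg : g ∈ centralizer ({v} : Set G)) {k : ℕ}
    (hgp : g ^ p ^ k = 1) (hg1 : g ≠ 1) : ∃ x ∈ Sv v, g * x ≠ x * g := by
  have : Fact (Nat.Prime 2) := ⟨Nat.prime_two⟩
  by_contra hc
  push Not at hc
  have h2 : v ^ 2 ^ 1 = 1 := by simpa using hv2
  have hne : zpowers v ≠ ⊥ := by
    intro he
    have := Subgroup.mem_zpowers v
    rw [he, Subgroup.mem_bot] at this
    exact hv1 this
  have h3 : g ∈ coreK 2 (zpowers v) :=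
    mem_coreK_of_commute hS2 (zpowers_isPGroup h2) hne
      (centralizer_singleton_le_normalizer_zpowers v hg) (fun t ht => (hc t ht).symm)
  obtain ⟨m, hm⟩ := coreK_isPGroup (q := 2) (zpowers v) ⟨g, h3⟩
  have hm' : g ^ 2 ^ m = 1 := by simpa using congrArg Subtype.val hm
  exact hg1 (eq_one_of_pow_pow hp hgp hm')

theorem commute_of_core {p : ℕ} [Fact p.Prime] [Finite G] (hp : p ≠ 2) {S Q : Subgroup G}
    (hS : IsPGroup 2 S) (hQ : IsPGroup p Q) {a y : G} (ha : a ∈ S)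
    (hy : y ∈ normalizer (S : Set G)) (hyQ : y ∈ Q) (haQ : a ∈ normalizer (Q : Set G)) :
    a * y = y * a := by
  have : Fact (Nat.Prime 2) := ⟨Nat.prime_two⟩
  have h1 : ⁅a, y⁆ ∈ S := by
    rw [commutatorElement_def]
    have e : a * y * a⁻¹ * y⁻¹ = a * (y * a⁻¹ * y⁻¹) := by group
    rw [e]
    exact S.mul_mem ha (Subgroup.le_normalizer_iff.mp (le_refl _) y hy _ (S.inv_mem ha))
  have h2 : ⁅a, y⁆ ∈ Q := by
    rw [commutatorElement_def]
    exact Q.mul_mem (Subgroup.le_normalizer_iff.mp (le_refl _) a haQ y hyQ) (Q.inv_mem hyQ)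
  obtain ⟨m, hm⟩ := hS ⟨_, h1⟩
  obtain ⟨n, hn⟩ := hQ ⟨_, h2⟩
  have hm' : ⁅a, y⁆ ^ 2 ^ m = 1 := by simpa using congrArg Subtype.val hm
  have hn' : ⁅a, y⁆ ^ p ^ n = 1 := by simpa using congrArg Subtype.val hn
  have h3 := eq_one_of_pow_pow hp hn' hm'
  rwa [commutatorElement_eq_one_iff_mul_comm] at h3

theorem Comp.not_mem_of_gen [Finite G] {p : ℕ} {N E H Λ : Subgroup G} {v g : G}
    (hC : Comp p (N ⊔ zpowers v) E v H Λ) (hvc : ∀ x ∈ N ⊔ zpowers v, x * v = v * x)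
    (hgv : g * v = v * g) (hN : ⁅N, zpowers g⁆ = N) : g ∉ H := by
  intro hg
  have h1 := hC.comm_of_gen hvc le_sup_left hg hgv hN
  obtain ⟨x, hx, y, hy, hne⟩ := hC.nonab
  apply hne
  have hle : N ⊔ zpowers v ≤ centralizer ({x} : Set G) := by
    refine sup_le ?_ ?_
    · intro n hn
      rw [Subgroup.mem_centralizer_iff]
      rintro t rfl
      exact h1 t hx n hn
    · rw [Subgroup.zpowers_le, Subgroup.mem_centralizer_iff]
      rintro t rfl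
      exact hvc t (hC.L_le hx)
  exact (Subgroup.mem_centralizer_iff.mp (hle (hC.L_le hy))) x rfl

/-- The section attached to `[S_v, g]`. -/
theorem exists_comp_gen [Finite G] {p r : ℕ} [hpp : Fact p.Prime] (hp : p ≠ 2)
    (hS2 : SelfCent 2 G) (hR : RankBound p r G)
    (hr : 2 ≤ r) {E : Subgroup G} {v g : G} (hE : EA p E) (hcard : Nat.card E = p ^ r)
    (hv2 : v ^ 2 = 1) (hv1 : v ≠ 1) (hvE : ∀ e ∈ E, e * v = v * e) (hg : g ∈ E) (hg1 : g ≠ 1) :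
    ⁅⁅Sv v, zpowers g⁆, zpowers g⁆ = ⁅Sv v, zpowers g⁆ ∧
      ∃ H Λ, Comp p (⁅Sv v, zpowers g⁆ ⊔ zpowers v) E v H Λ := by
  have : Fact (Nat.Prime 2) := ⟨Nat.prime_two⟩
  have hEC : E ≤ centralizer ({v} : Set G) := by
    intro e he
    rw [Subgroup.mem_centralizer_iff]
    rintro t rfl
    exact (hvE e he).symm
  have hES : E ≤ normalizer (Sv v : Set G) := hEC.trans (centralizer_le_normalizer_Sv v)
  have hzg : zpowers g ≤ normalizer (Sv v : Set G) := by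
    rw [Subgroup.zpowers_le]; exact hES hg
  have hgp : g ^ p = 1 := hE.pow g hg
  have hgp' : g ^ p ^ 1 = 1 := by simpa using hgp
  have hcop : (Nat.card (zpowers g)).Coprime (Nat.card (Sv v)) :=
    IsPGroup.coprime_card_of_ne p 2 hp _ _ (zpowers_isPGroup hgp') (Sv_isPGroup v)
  have hcc := commutator_commutator_eq hzg hcop (Or.inr (isSolvable_of_isPGroup (Sv_isPGroup v)))
  refine ⟨hcc, ?_⟩
  have hNS : ⁅Sv v, zpowers g⁆ ≤ Sv v := commutator_le_of_le_normalizer hzg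
  have hXS : ⁅Sv v, zpowers g⁆ ⊔ zpowers v ≤ Sv v :=
    sup_le hNS (by rw [Subgroup.zpowers_le]; exact mem_Sv hv2)
  have hEzg : E ≤ normalizer ((zpowers g : Subgroup G) : Set G) := by
    rw [Subgroup.le_normalizer_iff]
    rintro e he _ ⟨k, rfl⟩
    have h1 : Commute e (g ^ k) := Commute.zpow_right (hE.comm e he g hg) k
    show e * g ^ k * e⁻¹ ∈ _
    rw [h1.eq, mul_assoc, mul_inv_cancel, mul_one]
    exact Subgroup.zpow_mem _ (Subgroup.mem_zpowers g) k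
  refine exists_comp hp hR hr hE hcard hv2 hv1 hvE (IsPGroup.to_le (Sv_isPGroup v) hXS)
    (le_normalizer_sup (le_normalizer_commutator_of_le hES hEzg)
      (hEC.trans (centralizer_singleton_le_normalizer_zpowers v)))
    (Subgroup.mem_sup_right (Subgroup.mem_zpowers v))
    (fun x hx => Sv_comm hv2 hv1 x (hXS hx)) ?_
  refine ⟨g, hg, ?_⟩
  by_contra hc
  push Not at hc
  obtain ⟨x, hx, hne⟩ := Sv_moved hp hS2 hv2 hv1 (hEC hg) hgp' hg1
  apply hne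
  have hN : ⁅Sv v, zpowers g⁆ = ⊥ := by
    rw [← hcc, eq_bot_iff]
    apply commutator_zpowers_le (le_normalizer_commutator_right _ _ (Subgroup.mem_zpowers g))
    intro z hz
    rw [Subgroup.mem_bot, commutatorElement_eq_one_iff_mul_comm]
    exact (hc z (Subgroup.mem_sup_left hz)).symm
  have h1 : ⁅x, g⁆ ∈ ⁅Sv v, zpowers g⁆ :=
    Subgroup.commutator_mem_commutator hx (Subgroup.mem_zpowers g)
  rw [hN, Subgroup.mem_bot, commutatorElement_eq_one_iff_mul_comm] at h1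
  exact h1.symm

theorem Comp.exists_not_mem [Finite G] {p : ℕ} [hpp : Fact p.Prime] {X E H Λ : Subgroup G} {v : G}
    (hC : Comp p X E v H Λ) : ∃ d ∈ E, d ∉ H := by
  by_contra hc
  push Not at hc
  have hle : E ≤ H := hc
  have h1 : Nat.card E ≤ Nat.card H := Subgroup.card_le_of_le hle
  rw [hC.card_H] at h1
  have h2 : 0 < Nat.card H := Nat.card_pos
  have h3 : 1 < p := hpp.out.one_lt
  nlinarith

theorem Comp.card_eq [Finite G] {p r : ℕ} [hpp : Fact p.Prime] {X E H Λ : Subgroup G} {v : G}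
    (hC : Comp p X E v H Λ) (hE : EA p E) (hcard : Nat.card E = p ^ r) :
    ∃ a, Nat.card H = p ^ a ∧ r = a + 1 := by
  obtain ⟨a, ha⟩ := (hE.mono hC.H_le).exists_card
  refine ⟨a, ha, ?_⟩
  have h := hC.card_H
  rw [hcard, ha, ← pow_succ] at h
  exact Nat.pow_right_injective hpp.out.two_le h

theorem Comp.noRank3 [Finite G] {p r : ℕ} [hpp : Fact p.Prime] {X E H Λ : Subgroup G} {v : G}
    (hC : Comp p X E v H Λ) (hE : EA p E) (hcard : Nat.card E = p ^ r) (hR : RankBound p r G)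
    (hr : 2 ≤ r) : NoRank3 H := by
  obtain ⟨a, ha, hra⟩ := hC.card_eq hE hcard
  have hH1 : H ≠ ⊥ := by
    intro he
    rw [he, Subgroup.card_bot] at ha
    have h1 : a ≠ 0 := by omega
    have : 1 < p ^ a := Nat.one_lt_pow h1 hpp.out.one_lt
    omega
  exact noRank3_of hR (hE.mono hC.H_le) hH1 ha hra.le

theorem card_inf_ge [Finite G] {p : ℕ} {E A F : Subgroup G} (hA : A ≤ E) (hF : F ≤ E)
    (hc : Nat.card E = Nat.card A * p) : Nat.card F ≤ Nat.card ↥(A ⊓ F) * p := by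
  have h1 : A.relIndex E = p := by
    have h2 := card_eq_card_mul_relIndex hA
    rw [hc] at h2
    exact (Nat.eq_of_mul_eq_mul_left Nat.card_pos h2).symm
  have h3 : Nat.card F = Nat.card ↥(A ⊓ F) * (A ⊓ F).relIndex F :=
    card_eq_card_mul_relIndex inf_le_right
  have h4 : (A ⊓ F).relIndex F = A.relIndex F := Subgroup.inf_relIndex_right A F
  have hne : A.relIndex E ≠ 0 := by
    intro h0
    have := card_eq_card_mul_relIndex hA
    rw [h0, mul_zero] at this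
    exact Nat.card_pos.ne' this
  have h5 : A.relIndex F ≤ A.relIndex E := Subgroup.relIndex_le_of_le_right hF hne
  rw [h3, h4]
  exact Nat.mul_le_mul_left _ (h1 ▸ h5)

theorem ne_inv_of_orderOf {p : ℕ} [hpp : Fact p.Prime] (hp : p ≠ 2) {y : G} (h : orderOf y = p) :
    y ≠ y⁻¹ := by
  intro he
  have h2 : y ^ 2 = 1 := by
    rw [pow_two]
    nth_rewrite 1 [he]
    exact inv_mul_cancel y
  have h3 := orderOf_dvd_of_pow_eq_one h2
  rw [h] at h3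
  exact hp ((Nat.prime_dvd_prime_iff_eq hpp.out Nat.prime_two).mp h3)

theorem not_mem_of_inverted {B : Subgroup G} {w y : G} (hw : w ∈ centralizer (B : Set G))
    (hinv : w * y * w⁻¹ = y⁻¹) (hy : y ≠ y⁻¹) : y ∉ B := by
  intro hyB
  have h1 := (Subgroup.mem_centralizer_iff.mp hw) y hyB
  apply hy
  rw [← hinv, ← h1]
  group

theorem le_normalizer_zpowers_of_eig {W : Subgroup G} {y : G}
    (h : ∀ u ∈ W, u * y * u⁻¹ = y ∨ u * y * u⁻¹ = y⁻¹) :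
    W ≤ normalizer ((zpowers y : Subgroup G) : Set G) := by
  rw [Subgroup.le_normalizer_iff]
  rintro u hu _ ⟨k, rfl⟩
  show u * y ^ k * u⁻¹ ∈ _
  rw [← conj_zpow]
  rcases h u hu with h1 | h1
  · rw [h1]; exact Subgroup.zpow_mem _ (Subgroup.mem_zpowers y) k
  · rw [h1]; exact Subgroup.zpow_mem _ (Subgroup.inv_mem _ (Subgroup.mem_zpowers y)) k

theorem centralizer_sup_le {A B : Subgroup G} {u : G} (hA : ∀ a ∈ A, u * a = a * u)
    (hB : ∀ a ∈ B, u * a = a * u) : ∀ a ∈ A ⊔ B, u * a = a * u := by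
  have hle : A ⊔ B ≤ centralizer ({u} : Set G) := by
    refine sup_le ?_ ?_
    · intro a ha
      rw [Subgroup.mem_centralizer_iff]
      rintro t rfl
      exact hA a ha
    · intro a ha
      rw [Subgroup.mem_centralizer_iff]
      rintro t rfl
      exact hB a ha
  intro a ha
  exact (Subgroup.mem_centralizer_iff.mp (hle ha)) u rfl

theorem commute_zpowers {u y : G} (h : u * y = y * u) : ∀ a ∈ zpowers y, u * a = a * u := by
  rintro _ ⟨k, rfl⟩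
  exact (Commute.zpow_right (show Commute u y from h) k).eq

/-- **Step C.** -/
theorem step_C [Finite G] {p r b : ℕ} [hpp : Fact p.Prime] (hp : p ≠ 2) (hSp : SelfCent p G)
    (hmax : ∀ (E : Subgroup G) (v : G), EA p E → orderOf v = 2 → E ≤ centralizer ({v} : Set G) →
      Nat.card E ≤ p ^ r)
    {W B : Subgroup G} {v : G} (hW : EA 2 W) (hWc : Nat.card W = 2 ^ 3) (hvW : v ∈ W) (hv1 : v ≠ 1)
    (hB : EA p B) (hB1 : B ≠ ⊥) (hBc : Nat.card B = p ^ b) (hWB : W ≤ centralizer (B : Set G))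
    (hrb : r ≤ b + 2) :
    ∃ y₁ y₂ f v' : G, orderOf y₁ = p ∧ y₁ ∈ OO p B ∧ y₁ ∉ B ∧ orderOf y₂ = p ∧
      y₂ ∈ OO p (B ⊔ zpowers y₁) ∧ y₂ ∉ B ⊔ zpowers y₁ ∧
      f ∈ W ∧ f * y₁ * f⁻¹ = y₁⁻¹ ∧ f * y₂ * f⁻¹ = y₂ ∧ v' ∈ W ∧ orderOf v' = 2 ∧
      v' * y₁ = y₁ * v' ∧ v' * y₂ = y₂ * v' ∧ b + 2 = r := by
  have : Fact (Nat.Prime 2) := ⟨Nat.prime_two⟩
  have hp1 : 1 < p := hpp.out.one_lt
  have hv2 : v ^ 2 = 1 := hW.pow v hvW
  have hWN : W ≤ normalizer (OO p B : Set G) :=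
    hWB.trans ((centralizer_le_normalizer B).trans (normalizer_le_normalizer_OO p B))
  obtain ⟨y₁, hy₁, hord₁, hvy₁, heig₁⟩ := eigen hp hW _ (OO p B) rfl (OO_isPGroup B) hWN v hvW (by
    obtain ⟨y, hy, hne⟩ := faithful hp hSp hB.isPGroup hB1 (hWB hvW) (n := 1)
      (by simpa using hv2) hv1
    exact ⟨y, hy, hne⟩)
  have hy₁odd := ne_inv_of_orderOf hp hord₁
  have hy₁B : y₁ ∉ B := not_mem_of_inverted (hWB hvW) hvy₁ hy₁odd
  have hy₁p : y₁ ^ p = 1 := by rw [← hord₁]; exact pow_orderOf_eq_one y₁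
  have hcW := card_eigen hW hvW hvy₁ hy₁odd heig₁
  obtain ⟨W₁, hW₁⟩ : ∃ W₁, W₁ = W ⊓ centralizer ({y₁} : Set G) := ⟨_, rfl⟩
  rw [← hW₁] at hcW
  have hW₁W : W₁ ≤ W := by rw [hW₁]; exact inf_le_left
  have hW₁y₁ : ∀ u ∈ W₁, u * y₁ = y₁ * u := by
    intro u hu
    rw [hW₁] at hu
    exact ((Subgroup.mem_centralizer_iff.mp hu.2) y₁ rfl).symm
  have hW₁c : Nat.card W₁ = 2 ^ 2 := by
    rw [hWc] at hcW
    have : 2 ^ 3 = 2 ^ 2 * 2 := by norm_num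
    rw [this] at hcW
    exact (Nat.eq_of_mul_eq_mul_right (by norm_num) hcW).symm
  have hy₁c : ∀ e ∈ B, y₁ * e = e * y₁ := fun e he =>
    ((Subgroup.mem_centralizer_iff.mp hy₁.2) e he).symm
  obtain ⟨hE₁, hE₁c⟩ := EA.sup_zpowers hB hy₁p hy₁B hy₁c
  have hWE₁ : W ≤ normalizer ((B ⊔ zpowers y₁ : Subgroup G) : Set G) :=
    le_normalizer_sup (hWB.trans (centralizer_le_normalizer B))
      (le_normalizer_zpowers_of_eig heig₁)
  have hW₁E₁ : ∀ u ∈ W₁, ∀ a ∈ B ⊔ zpowers y₁, u * a = a * u := by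
    intro u hu
    apply centralizer_sup_le
    · intro a ha
      exact ((Subgroup.mem_centralizer_iff.mp (hWB (hW₁W hu))) a ha).symm
    · exact commute_zpowers (hW₁y₁ u hu)
  have hW₁1 : W₁ ≠ ⊥ := by
    intro he
    rw [he, Subgroup.card_bot] at hW₁c
    omega
  obtain ⟨⟨w₁, hw₁⟩, hw₁1⟩ := (Subgroup.ne_bot_iff_exists_ne_one).mp hW₁1
  have hw₁1' : w₁ ≠ 1 := fun h => hw₁1 (Subtype.ext h)
  have hw₁2 : w₁ ^ 2 = 1 := hW.pow w₁ (hW₁W hw₁)
  have hE₁1 : B ⊔ zpowers y₁ ≠ ⊥ := by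
    intro he
    apply hB1
    rw [eq_bot_iff, ← he]
    exact le_sup_left
  have hw₁C : w₁ ∈ centralizer ((B ⊔ zpowers y₁ : Subgroup G) : Set G) := by
    rw [Subgroup.mem_centralizer_iff]
    intro a ha
    exact (hW₁E₁ w₁ hw₁ a ha).symm
  obtain ⟨y₂, hy₂, hord₂, hwy₂, heig₂⟩ := eigen hp hW _ (OO p (B ⊔ zpowers y₁)) rfl
    (OO_isPGroup _) (hWE₁.trans (normalizer_le_normalizer_OO p _)) w₁ (hW₁W hw₁) (by
    obtain ⟨y, hy, hne⟩ := faithful hp hSp hE₁.isPGroup hE₁1 hw₁C (n := 1)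
      (by simpa using hw₁2) hw₁1'
    exact ⟨y, hy, hne⟩)
  have hy₂odd := ne_inv_of_orderOf hp hord₂
  have hy₂E : y₂ ∉ B ⊔ zpowers y₁ := not_mem_of_inverted hw₁C hwy₂ hy₂odd
  have hy₂p : y₂ ^ p = 1 := by rw [← hord₂]; exact pow_orderOf_eq_one y₂
  have hy₂c : ∀ e ∈ B ⊔ zpowers y₁, y₂ * e = e * y₂ := fun e he =>
    ((Subgroup.mem_centralizer_iff.mp hy₂.2) e he).symm
  obtain ⟨hES, hESc⟩ := EA.sup_zpowers hE₁ hy₂p hy₂E hy₂c
  have hcW₁ := card_eigen (hW.mono hW₁W) hw₁ hwy₂ hy₂odd (fun u hu => heig₂ u (hW₁W hu))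
  obtain ⟨W₂, hW₂⟩ : ∃ W₂, W₂ = W₁ ⊓ centralizer ({y₂} : Set G) := ⟨_, rfl⟩
  rw [← hW₂] at hcW₁
  have hW₂W₁ : W₂ ≤ W₁ := by rw [hW₂]; exact inf_le_left
  have hW₂c : Nat.card W₂ = 2 := by
    rw [hW₁c] at hcW₁
    have : 2 ^ 2 = 2 * 2 := by norm_num
    rw [this] at hcW₁
    exact (Nat.eq_of_mul_eq_mul_right (by norm_num) hcW₁).symm
  have hW₂1 : W₂ ≠ ⊥ := by
    intro he
    rw [he, Subgroup.card_bot] at hW₂c
    omega
  obtain ⟨⟨v', hv'⟩, hv'1⟩ := (Subgroup.ne_bot_iff_exists_ne_one).mp hW₂1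
  have hv'1' : v' ≠ 1 := fun h => hv'1 (Subtype.ext h)
  have hv'W₁ : v' ∈ W₁ := hW₂W₁ hv'
  have hv'W : v' ∈ W := hW₁W hv'W₁
  have hv'2 : v' ^ 2 = 1 := hW.pow v' hv'W
  have hv'ord : orderOf v' = 2 := orderOf_eq_prime hv'2 hv'1'
  have hv'y₂ : v' * y₂ = y₂ * v' := by
    rw [hW₂] at hv'
    exact ((Subgroup.mem_centralizer_iff.mp hv'.2) y₂ rfl).symm
  have hESv' : B ⊔ zpowers y₁ ⊔ zpowers y₂ ≤ centralizer ({v'} : Set G) := by
    intro a ha
    rw [Subgroup.mem_centralizer_iff]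
    rintro t rfl
    exact centralizer_sup_le (hW₁E₁ t hv'W₁) (commute_zpowers hv'y₂) a ha
  have hbr : b + 2 = r := by
    have h1 := hmax _ v' hES hv'ord hESv'
    rw [hESc, hE₁c, hBc, mul_assoc, ← pow_two, ← pow_add] at h1
    have := (Nat.pow_le_pow_iff_right hp1).mp h1
    omega
  -- the involution `f`
  have hf : ∃ f ∈ W, f * y₁ * f⁻¹ = y₁⁻¹ ∧ f * y₂ * f⁻¹ = y₂ := by
    rcases heig₂ v hvW with h | h
    · exact ⟨v, hvW, hvy₁, h⟩
    · refine ⟨v * w₁, W.mul_mem hvW (hW₁W hw₁), ?_, ?_⟩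
      · have h1 := hW₁y₁ w₁ hw₁
        have e : v * w₁ * y₁ * (v * w₁)⁻¹ = v * (w₁ * y₁) * w₁⁻¹ * v⁻¹ := by group
        rw [e, h1]
        have e2 : v * (y₁ * w₁) * w₁⁻¹ * v⁻¹ = v * y₁ * v⁻¹ := by group
        rw [e2, hvy₁]
      · have e : v * w₁ * y₂ * (v * w₁)⁻¹ = v * (w₁ * y₂ * w₁⁻¹) * v⁻¹ := by group
        rw [e, hwy₂]
        have e2 : v * y₂⁻¹ * v⁻¹ = (v * y₂ * v⁻¹)⁻¹ := by group
        rw [e2, h, inv_inv]
  obtain ⟨f, hfW, hfy₁, hfy₂⟩ := hf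
  exact ⟨y₁, y₂, f, v', hord₁, hy₁, hy₁B, hord₂, hy₂, hy₂E, hfW, hfy₁, hfy₂, hv'W, hv'ord,
    hW₁y₁ v' hv'W₁, hv'y₂, hbr⟩

theorem mem_normalizer_of_invol {f : G} {K : Subgroup G} (hff : f * f = 1)
    (h : ∀ k ∈ K, f * k * f⁻¹ ∈ K) : f ∈ normalizer (K : Set G) := by
  have hfi : f⁻¹ = f := inv_eq_of_mul_eq_one_left hff
  rw [Subgroup.mem_normalizer_iff]
  intro k
  refine ⟨h k, fun hk => ?_⟩
  have h1 := h _ hk
  have e : f * (f * k * f⁻¹) * f⁻¹ = k := by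
    rw [hfi]
    calc f * (f * k * f) * f = (f * f) * k * (f * f) := by group
      _ = k := by rw [hff]; group
  rwa [e] at h1

theorem mem_normalizer_sup {f : G} {A B : Subgroup G} (hA : f ∈ normalizer (A : Set G))
    (hB : f ∈ normalizer (B : Set G)) : f ∈ normalizer ((A ⊔ B : Subgroup G) : Set G) :=
  le_normalizer_sup (T := zpowers f) (Subgroup.zpowers_le.mpr hA) (Subgroup.zpowers_le.mpr hB)
    (Subgroup.mem_zpowers f)

/-- **Step E.** -/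
theorem step_E [Finite G] {p r b : ℕ} [hpp : Fact p.Prime] (hp : p ≠ 2) (hS2 : SelfCent 2 G)
    (hR : RankBound p r G)
    {W B : Subgroup G} (hW : EA 2 W) (hB : EA p B) (hBc : Nat.card B = p ^ b)
    (hWB : W ≤ centralizer (B : Set G)) (hb : 1 ≤ b)
    {y₁ y₂ f v' : G} (hord₁ : orderOf y₁ = p) (hy₁ : y₁ ∈ OO p B) (hy₁B : y₁ ∉ B)
    (hord₂ : orderOf y₂ = p) (hy₂ : y₂ ∈ OO p (B ⊔ zpowers y₁)) (hy₂E : y₂ ∉ B ⊔ zpowers y₁)
    (hfW : f ∈ W) (hfy₁ : f * y₁ * f⁻¹ = y₁⁻¹) (hfy₂ : f * y₂ * f⁻¹ = y₂) (hv'W : v' ∈ W)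
    (hv'ord : orderOf v' = 2) (hv'y₁ : v' * y₁ = y₁ * v') (hv'y₂ : v' * y₂ = y₂ * v')
    (hbr : b + 2 = r) : False := by
  have : Fact (Nat.Prime 2) := ⟨Nat.prime_two⟩
  have hp1 : 1 < p := hpp.out.one_lt
  have hp2 : Nat.Coprime 2 p := (Nat.coprime_primes Nat.prime_two hpp.out).mpr hp.symm
  have hr : 2 ≤ r := by omega
  have hv'2 : v' ^ 2 = 1 := hW.pow v' hv'W
  have hv'1 : v' ≠ 1 := by
    rintro rfl
    rw [orderOf_one] at hv'ord
    omega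
  have hf2 : f ^ 2 = 1 := hW.pow f hfW
  have hff : f * f = 1 := by rw [← pow_two, hf2]
  have hfi : f⁻¹ = f := inv_eq_of_mul_eq_one_left hff
  have hfv' : f * v' = v' * f := hW.comm f hfW v' hv'W
  have hfB : ∀ c ∈ B, f * c = c * f := fun c hc =>
    ((Subgroup.mem_centralizer_iff.mp (hWB hfW)) c hc).symm
  have hy₁p : y₁ ^ p = 1 := by rw [← hord₁]; exact pow_orderOf_eq_one y₁
  have hy₂p : y₂ ^ p = 1 := by rw [← hord₂]; exact pow_orderOf_eq_one y₂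
  have hy₁1 : y₁ ≠ 1 := by
    rintro rfl
    rw [orderOf_one] at hord₁
    omega
  have hy₁odd := ne_inv_of_orderOf hp hord₁
  have hy₁c : ∀ e ∈ B, y₁ * e = e * y₁ := fun e he =>
    ((Subgroup.mem_centralizer_iff.mp hy₁.2) e he).symm
  obtain ⟨hE₁, hE₁c⟩ := EA.sup_zpowers hB hy₁p hy₁B hy₁c
  have hy₂c : ∀ e ∈ B ⊔ zpowers y₁, y₂ * e = e * y₂ := fun e he =>
    ((Subgroup.mem_centralizer_iff.mp hy₂.2) e he).symm
  obtain ⟨hES, hESc⟩ := EA.sup_zpowers hE₁ hy₂p hy₂E hy₂c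
  obtain ⟨ES, hESd⟩ : ∃ ES, ES = B ⊔ zpowers y₁ ⊔ zpowers y₂ := ⟨_, rfl⟩
  rw [← hESd] at hES hESc
  have hEScard : Nat.card ES = p ^ r := by
    rw [hESc, hE₁c, hBc, ← hbr, pow_add, pow_two, mul_assoc]
  have hBES : B ≤ ES := by rw [hESd]; exact le_sup_left.trans le_sup_left
  have hy₁ES : y₁ ∈ ES := by
    rw [hESd]
    exact Subgroup.mem_sup_left (Subgroup.mem_sup_right (Subgroup.mem_zpowers y₁))
  have hy₂ES : y₂ ∈ ES := by
    rw [hESd]
    exact Subgroup.mem_sup_right (Subgroup.mem_zpowers y₂)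
  have hv'B : ∀ c ∈ B, v' * c = c * v' := fun c hc =>
    ((Subgroup.mem_centralizer_iff.mp (hWB hv'W)) c hc).symm
  have hv'ES' : ∀ e ∈ ES, v' * e = e * v' := by
    rw [hESd]
    exact centralizer_sup_le (centralizer_sup_le hv'B (commute_zpowers hv'y₁))
      (commute_zpowers hv'y₂)
  have hv'ES : ∀ e ∈ ES, e * v' = v' * e := fun e he => (hv'ES' e he).symm
  obtain ⟨hN, H', Λ, hC⟩ := exists_comp_gen hp hS2 hR hr hES hEScard hv'2 hv'1 hv'ES hy₁ES hy₁1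
  have hEC : ES ≤ centralizer ({v'} : Set G) := by
    intro e he
    rw [Subgroup.mem_centralizer_iff]
    rintro t rfl
    exact hv'ES' e he
  have hy₁N : y₁ ∈ normalizer (Sv v' : Set G) := centralizer_le_normalizer_Sv v' (hEC hy₁ES)
  have hy₂N : y₂ ∈ normalizer (Sv v' : Set G) := centralizer_le_normalizer_Sv v' (hEC hy₂ES)
  have hNS : ⁅Sv v', zpowers y₁⁆ ≤ Sv v' :=
    commutator_le_of_le_normalizer (Subgroup.zpowers_le.mpr hy₁N)
  have hXS : ⁅Sv v', zpowers y₁⁆ ⊔ zpowers v' ≤ Sv v' :=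
    sup_le hNS (by rw [Subgroup.zpowers_le]; exact mem_Sv hv'2)
  have hvc : ∀ x ∈ ⁅Sv v', zpowers y₁⁆ ⊔ zpowers v', x * v' = v' * x := fun x hx =>
    Sv_comm hv'2 hv'1 x (hXS hx)
  have hy₁H : y₁ ∉ H' := hC.not_mem_of_gen hvc hv'y₁.symm hN
  have hD : ∀ a ∈ Sv v', (∀ c ∈ B, a * c = c * a) → a * y₁ = y₁ * a ∧ a * y₂ = y₂ * a := by
    intro a ha hac
    have haC : a ∈ centralizer (B : Set G) :=
      Subgroup.mem_centralizer_iff.mpr (fun c hc => (hac c hc).symm)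
    have h1 : a * y₁ = y₁ * a := commute_of_core hp (Sv_isPGroup v') (coreK_isPGroup (q := p) B) ha
      hy₁N hy₁.1 (normalizer_le_normalizer_coreK p B (centralizer_le_normalizer B haC))
    have hay : ∀ c ∈ B ⊔ zpowers y₁, a * c = c * a :=
      centralizer_sup_le hac (commute_zpowers h1)
    have haC' : a ∈ centralizer ((B ⊔ zpowers y₁ : Subgroup G) : Set G) :=
      Subgroup.mem_centralizer_iff.mpr (fun c hc => (hay c hc).symm)
    exact ⟨h1, commute_of_core hp (Sv_isPGroup v') (coreK_isPGroup (q := p) _) ha hy₂N hy₂.1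
      (normalizer_le_normalizer_coreK p _ (centralizer_le_normalizer _ haC'))⟩
  -- `B` is not contained in `H'`
  have hBH : ∃ c ∈ B, c ∉ H' := by
    by_contra hc
    push Not at hc
    have hall : ∀ a ∈ Λ, a = 1 ∨ a = v' := by
      intro a ha
      refine hC.fix y₁ hy₁ES hy₁H a ha ?_
      have := hD a (hXS (hC.L_le ha)) (fun c hcB => (hC.centr c (hc c hcB) a ha).symm)
      exact this.1.symm
    obtain ⟨x, hx, y, hy, hne⟩ := hC.nonab
    apply hne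
    rcases hall x hx with rfl | rfl
    · group
    · rcases hall y hy with rfl | rfl
      · group
      · rfl
  obtain ⟨c, hcB, hcH⟩ := hBH
  -- `f` normalizes what is needed
  have hfzy₁ : f ∈ normalizer ((zpowers y₁ : Subgroup G) : Set G) := by
    apply mem_normalizer_of_invol hff
    rintro _ ⟨k, rfl⟩
    show f * y₁ ^ k * f⁻¹ ∈ _
    rw [← conj_zpow, hfy₁]
    exact Subgroup.zpow_mem _ (Subgroup.inv_mem _ (Subgroup.mem_zpowers y₁)) k
  have hfzy₂ : f ∈ normalizer ((zpowers y₂ : Subgroup G) : Set G) := by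
    apply mem_normalizer_of_invol hff
    rintro _ ⟨k, rfl⟩
    show f * y₂ ^ k * f⁻¹ ∈ _
    rw [← conj_zpow, hfy₂]
    exact Subgroup.zpow_mem _ (Subgroup.mem_zpowers y₂) k
  have hfNB : f ∈ normalizer (B : Set G) := centralizer_le_normalizer B (hWB hfW)
  have hfES : f ∈ normalizer (ES : Set G) := by
    rw [hESd]
    exact mem_normalizer_sup (mem_normalizer_sup hfNB hfzy₁) hfzy₂
  have hfCv : f ∈ centralizer ({v'} : Set G) := by
    rw [Subgroup.mem_centralizer_iff]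
    rintro t rfl
    exact hfv'.symm
  have hfS : f ∈ normalizer (Sv v' : Set G) := centralizer_le_normalizer_Sv v' hfCv
  have hfX : f ∈ normalizer ((⁅Sv v', zpowers y₁⁆ ⊔ zpowers v' : Subgroup G) : Set G) :=
    mem_normalizer_sup
      (le_normalizer_commutator_of_le (T := zpowers f) (Subgroup.zpowers_le.mpr hfS)
        (Subgroup.zpowers_le.mpr hfzy₁) (Subgroup.mem_zpowers f))
      (centralizer_singleton_le_normalizer_zpowers v' hfCv)
  -- `H'` is not `f`-invariant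
  have hsup := hC.sup_zpowers_eq hES hy₁ES hy₁H
  have hnz : zpowers y₁ ≤ normalizer (H' : Set G) := by
    rw [Subgroup.le_normalizer_iff]
    rintro _ ⟨k, rfl⟩ h hh
    have h1 : Commute (y₁ ^ k) h :=
      Commute.zpow_left (hES.comm y₁ hy₁ES h (hC.H_le hh)) k
    show y₁ ^ k * h * (y₁ ^ k)⁻¹ ∈ H'
    rw [h1.eq, mul_assoc, mul_inv_cancel, mul_one]
    exact hh
  have hcES : c ∈ ES := hBES hcB
  have hex : ∃ g ∈ H', f * g * f⁻¹ ∉ H' := by
    by_contra hall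
    push Not at hall
    apply hcH
    obtain ⟨h, hh, t, ht, hcht⟩ := exists_mul_of_mem_sup hnz (by rw [hsup]; exact hcES)
    have htES : t ∈ ES := (Subgroup.zpowers_le.mpr hy₁ES) ht
    have hft : f * t * f⁻¹ = t⁻¹ := by
      obtain ⟨k, rfl⟩ := ht
      show f * y₁ ^ k * f⁻¹ = (y₁ ^ k)⁻¹
      rw [← conj_zpow, hfy₁, inv_zpow]
    have hfc : f * c * f⁻¹ = c := by rw [hfB c hcB]; group
    have hhe : h = c * t⁻¹ := by rw [hcht]; group
    have h1 : f * h * f⁻¹ = c * t := by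
      have e : f * (c * t⁻¹) * f⁻¹ = (f * c * f⁻¹) * (f * t * f⁻¹)⁻¹ := by group
      rw [hhe, e, hfc, hft, inv_inv]
    have h2 : c * t * (c * t⁻¹) = c ^ 2 := by
      have h3 : t * c = c * t := hES.comm t htES c hcES
      calc c * t * (c * t⁻¹) = c * (t * c) * t⁻¹ := by group
        _ = c * (c * t) * t⁻¹ := by rw [h3]
        _ = c ^ 2 := by rw [pow_two]; group
    have h3 : c ^ 2 ∈ H' := by
      rw [← h2, ← h1, hhe] 
      exact H'.mul_mem (hall _ hh |> fun h5 => by rw [← hhe]; exact h5) (by rw [← hhe]; exact hh)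
    have hcp : c ^ p = 1 := hES.pow c hcES
    have h4 : Nat.Coprime 2 (orderOf c) :=
      Nat.Coprime.coprime_dvd_right (orderOf_dvd_of_pow_eq_one hcp) hp2
    obtain ⟨m, hm⟩ := exists_pow_eq_self_of_coprime h4
    rw [← hm]
    exact H'.pow_mem h3 m
  obtain ⟨g, hgH, hg'H⟩ := hex
  obtain ⟨g', hg'⟩ : ∃ g', g' = f * g * f⁻¹ := ⟨_, rfl⟩
  rw [← hg'] at hg'H
  have hgES : g ∈ ES := hC.H_le hgH
  have hg'ES : g' ∈ ES := by
    rw [hg']
    exact Subgroup.le_normalizer_iff.mp (le_refl _) f hfES g hgES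
  have hfg' : f * g' * f⁻¹ = g := by
    rw [hg', hfi]
    calc f * (f * g * f) * f = (f * f) * g * (f * f) := by group
      _ = g := by rw [hff]; group
  -- the conjugate section
  obtain ⟨Λ₂, hΛ₂⟩ : ∃ Λ₂, Λ₂ = Λ.map (MulAut.conj f).toMonoidHom := ⟨_, rfl⟩
  have hΛ₂mem : ∀ z ∈ Λ, f * z * f⁻¹ ∈ Λ₂ := by
    intro z hz
    rw [hΛ₂]
    exact ⟨z, hz, rfl⟩
  have hΛ₂ex : ∀ x ∈ Λ₂, ∃ z ∈ Λ, x = f * z * f⁻¹ := by
    intro x hx
    rw [hΛ₂] at hx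
    obtain ⟨z, hz, rfl⟩ := hx
    exact ⟨z, hz, rfl⟩
  have hgen₂ : ⁅Λ₂, zpowers g⁆ = Λ₂ := by
    have h1 := hC.gen g' hg'ES hg'H
    have h2 := congrArg (Subgroup.map (MulAut.conj f).toMonoidHom) h1
    rw [Subgroup.map_commutator, MonoidHom.map_zpowers] at h2
    have e : (MulAut.conj f).toMonoidHom g' = g := hfg'
    rw [e, ← hΛ₂] at h2
    exact h2
  have hΛ₂X : Λ₂ ≤ ⁅Sv v', zpowers y₁⁆ ⊔ zpowers v' := by
    intro x hx
    obtain ⟨z, hz, rfl⟩ := hΛ₂ex x hx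
    exact Subgroup.le_normalizer_iff.mp (le_refl _) f hfX z (hC.L_le hz)
  have hcomm := hC.comm_of_gen hvc hΛ₂X hgH (hv'ES g hgES) hgen₂
  have hg'f : g' * f = f * g := by rw [hg']; rw [mul_assoc, inv_mul_cancel, mul_one]
  have hint : ∀ z ∈ Λ, z ∈ Λ₂ → z = 1 ∨ z = v' := by
    intro z hz hz₂
    refine hC.fix g' hg'ES hg'H z hz ?_
    obtain ⟨z₀, hz₀, rfl⟩ := hΛ₂ex z hz₂
    have h1 : g * z₀ = z₀ * g := hC.centr g hgH z₀ hz₀
    calc g' * (f * z₀ * f⁻¹) = (g' * f) * z₀ * f⁻¹ := by group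
      _ = f * (g * z₀) * f⁻¹ := by rw [hg'f]; group
      _ = f * (z₀ * g) * f⁻¹ := by rw [h1]
      _ = f * z₀ * f⁻¹ * (f * g * f⁻¹) := by group
      _ = f * z₀ * f⁻¹ * g' := by rw [hg']
  have hfv'c : f * v' * f⁻¹ = v' := by rw [hfv']; group
  have hv'Λ₂ : v' ∈ Λ₂ := by
    have := hΛ₂mem v' hC.v_mem
    rwa [hfv'c] at this
  have hNR := hC.noRank3 hES hEScard hR hr
  obtain ⟨x, hx, y, hy, hx2, hy2, hxy⟩ :=
    hC.pair hvc hv'2 hv'1 hNR hv'ES hp2 hy₁ES hy₁H hy₁p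
  obtain ⟨x', hx'⟩ : ∃ x', x' = f * x * f⁻¹ := ⟨_, rfl⟩
  obtain ⟨y', hy'⟩ : ∃ y', y' = f * y * f⁻¹ := ⟨_, rfl⟩
  have hx'₂ : x' ∈ Λ₂ := by rw [hx']; exact hΛ₂mem x hx
  have hy'₂ : y' ∈ Λ₂ := by rw [hy']; exact hΛ₂mem y hy
  have hx'2 : x' ^ 2 = v' := by rw [hx', conj_pow, hx2, hfv'c]
  have hy'2 : y' ^ 2 = v' := by rw [hy', conj_pow, hy2, hfv'c]
  have hxy' : ⁅x', y'⁆ = v' := by
    have e : ⁅x', y'⁆ = f * ⁅x, y⁆ * f⁻¹ := by
      rw [hx', hy', commutatorElement_def, commutatorElement_def]; group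
    rw [e, hxy, hfv'c]
  obtain ⟨hW₃, hW₃c⟩ := pair_product hv'2 hv'1 hcomm hint hC.v_mem hv'Λ₂ hx hy hx'₂ hy'₂ hx2 hy2 hxy
    hx'2 hy'2 hxy'
  -- `f` is not in `S'`
  have hfnotS : f ∉ Sv v' := by
    intro hfmem
    have hy₁p' : y₁ ^ p ^ 1 = 1 := by simpa using hy₁p
    have h1 := commute_of_core hp (Sv_isPGroup v') (zpowers_isPGroup hy₁p') hfmem hy₁N
      (Subgroup.mem_zpowers y₁) hfzy₁
    apply hy₁odd
    rw [← hfy₁, h1]
    group
  have hxS : x * x' ∈ Sv v' :=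
    (Sv v').mul_mem (hXS (hC.L_le hx)) (hXS (hΛ₂X hx'₂))
  have hyS : y * y' ∈ Sv v' :=
    (Sv v').mul_mem (hXS (hC.L_le hy)) (hXS (hΛ₂X hy'₂))
  have hW₃S : zpowers v' ⊔ zpowers (x * x') ⊔ zpowers (y * y') ≤ Sv v' :=
    sup_le (sup_le (by rw [Subgroup.zpowers_le]; exact mem_Sv hv'2)
      (by rw [Subgroup.zpowers_le]; exact hxS)) (by rw [Subgroup.zpowers_le]; exact hyS)
  have hfx : ∀ a a' : G, a' = f * a * f⁻¹ → a * a' = a' * a → f * (a * a') = (a * a') * f := by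
    intro a a' ha' hc
    have h1 : f * a = a' * f := by rw [ha']; group
    have h2 : f * a' = a * f := by
      rw [ha', hfi]
      calc f * (f * a * f) = (f * f) * a * f := by group
        _ = a * f := by rw [hff]; group
    calc f * (a * a') = (f * a) * a' := by group
      _ = a' * (f * a') := by rw [h1]; group
      _ = (a' * a) * f := by rw [h2]; group
      _ = (a * a') * f := by rw [hc]
  have hfW₃ : ∀ e ∈ zpowers v' ⊔ zpowers (x * x') ⊔ zpowers (y * y'), f * e = e * f :=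
    centralizer_sup_le (centralizer_sup_le (commute_zpowers hfv')
      (commute_zpowers (hfx x x' hx' (hcomm x hx x' hx'₂))))
      (commute_zpowers (hfx y y' hy' (hcomm y hy y' hy'₂)))
  obtain ⟨hW₄, hW₄c⟩ := EA.sup_zpowers hW₃ hf2 (fun h => hfnotS (hW₃S h)) hfW₃
  -- the kernel `K`
  have hy₂B : y₂ ∉ B := fun h => hy₂E (Subgroup.mem_sup_left h)
  obtain ⟨hEp, hEpc⟩ := EA.sup_zpowers hB hy₂p hy₂B
    (fun e he => hy₂c e (Subgroup.mem_sup_left he))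
  have hEpES : B ⊔ zpowers y₂ ≤ ES :=
    sup_le hBES (by rw [Subgroup.zpowers_le]; exact hy₂ES)
  have hcardK := card_inf_ge hC.H_le hEpES hC.card_H
  obtain ⟨a, ha⟩ := (hEp.mono (inf_le_right : H' ⊓ (B ⊔ zpowers y₂) ≤ _)).exists_card
  rw [hEpc, hBc, ha] at hcardK
  have hba : b ≤ a := by
    have h1 : p ^ b ≤ p ^ a := Nat.le_of_mul_le_mul_right hcardK hpp.out.pos
    exact (Nat.pow_le_pow_iff_right hp1).mp h1
  have hK1 : H' ⊓ (B ⊔ zpowers y₂) ≠ ⊥ := by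
    intro he
    rw [he, Subgroup.card_bot] at ha
    have h1 : a ≠ 0 := by omega
    have : 1 < p ^ a := Nat.one_lt_pow h1 hp1
    omega
  have hfy₂' : f * y₂ = y₂ * f := by
    calc f * y₂ = f * y₂ * f⁻¹ * f := by group
      _ = y₂ * f := by rw [hfy₂]
  have hfK : ∀ k ∈ H' ⊓ (B ⊔ zpowers y₂), f * k = k * f := by
    intro k hk
    exact centralizer_sup_le hfB (commute_zpowers hfy₂') k hk.2
  have hΛK : ∀ z ∈ Λ, ∀ k ∈ H' ⊓ (B ⊔ zpowers y₂), z * k = k * z := fun z hz k hk =>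
    (hC.centr k hk.1 z hz).symm
  have hΛ'K : ∀ z ∈ Λ, ∀ k ∈ H' ⊓ (B ⊔ zpowers y₂), (f * z * f⁻¹) * k = k * (f * z * f⁻¹) := by
    intro z hz k hk
    have h1 : Commute f k := hfK k hk
    have h2 : Commute z k := hΛK z hz k hk
    exact ((h1.mul_left h2).mul_left (Commute.inv_left h1)).eq
  have hWK : zpowers v' ⊔ zpowers (x * x') ⊔ zpowers (y * y') ⊔ zpowers f ≤
      centralizer ((H' ⊓ (B ⊔ zpowers y₂) : Subgroup G) : Set G) := by
    refine sup_le (sup_le (sup_le (zpowers_le_centralizer ?_) (zpowers_le_centralizer ?_))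
      (zpowers_le_centralizer ?_)) (zpowers_le_centralizer hfK)
    · exact hΛK v' hC.v_mem
    · intro k hk
      have h1 : Commute x k := hΛK x hx k hk
      have h2 : Commute x' k := by rw [hx']; exact hΛ'K x hx k hk
      exact (h1.mul_left h2).eq
    · intro k hk
      have h1 : Commute y k := hΛK y hy k hk
      have h2 : Commute y' k := by rw [hy']; exact hΛ'K y hy k hk
      exact (h1.mul_left h2).eq
  have hW₄c' : Nat.card ↥(zpowers v' ⊔ zpowers (x * x') ⊔ zpowers (y * y') ⊔ zpowers f) = 2 ^ 4 := by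
    rw [hW₄c, hW₃c]; rfl
  have hW₄1 : zpowers v' ⊔ zpowers (x * x') ⊔ zpowers (y * y') ⊔ zpowers f ≠ ⊥ := by
    intro he
    rw [he, Subgroup.card_bot] at hW₄c'
    omega
  have hfin := hR 4 a _ _ (hEp.mono inf_le_right |> fun h => h) hK1 ha hW₄ hW₄1 hW₄c' hWK
  omega

/-- The main contradiction. -/
theorem main_contra [Finite G] {p r : ℕ} [hpp : Fact p.Prime] (hp : p ≠ 2) (hSp : SelfCent p G)
    (hS2 : SelfCent 2 G) (hR : RankBound p r G)
    (hmax : ∀ (E : Subgroup G) (v : G), EA p E → orderOf v = 2 → E ≤ centralizer ({v} : Set G) →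
      Nat.card E ≤ p ^ r)
    (hr : 3 ≤ r) {E : Subgroup G} {v : G} (hE : EA p E) (hcard : Nat.card E = p ^ r)
    (hv : orderOf v = 2) (hvEC : E ≤ centralizer ({v} : Set G)) : False := by
  have : Fact (Nat.Prime 2) := ⟨Nat.prime_two⟩
  have hp1 : 1 < p := hpp.out.one_lt
  have hp2 : Nat.Coprime 2 p := (Nat.coprime_primes Nat.prime_two hpp.out).mpr hp.symm
  have hr2 : 2 ≤ r := by omega
  have hv2 : v ^ 2 = 1 := by rw [← hv]; exact pow_orderOf_eq_one v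
  have hv1 : v ≠ 1 := by
    rintro rfl
    rw [orderOf_one] at hv
    omega
  have hvE : ∀ e ∈ E, e * v = v * e := fun e he =>
    ((Subgroup.mem_centralizer_iff.mp (hvEC he)) v rfl).symm
  have hE1 : E ≠ ⊥ := by
    intro he
    rw [he, Subgroup.card_bot] at hcard
    have h1 : r ≠ 0 := by omega
    have : 1 < p ^ r := Nat.one_lt_pow h1 hp1
    omega
  obtain ⟨⟨g₀, hg₀⟩, hg₀1⟩ := (Subgroup.ne_bot_iff_exists_ne_one).mp hE1
  have hg₀1' : g₀ ≠ 1 := fun h => hg₀1 (Subtype.ext h)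
  have hSvc := Sv_comm hv2 hv1
  obtain ⟨H₀, Λ₀, hC₀⟩ := exists_comp hp hR hr2 hE hcard hv2 hv1 hvE (Sv_isPGroup v)
    (hvEC.trans (centralizer_le_normalizer_Sv v)) (mem_Sv hv2) hSvc (by
      have h1 : g₀ ^ p ^ 1 = 1 := by simpa using hE.pow g₀ hg₀
      obtain ⟨x, hx, hne⟩ := Sv_moved hp hS2 hv2 hv1 (hvEC hg₀) h1 hg₀1'
      exact ⟨g₀, hg₀, x, hx, hne⟩)
  obtain ⟨a₀, ha₀, hra₀⟩ := hC₀.card_eq hE hcard
  have hH₀1 : H₀ ≠ ⊥ := by
    intro he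
    rw [he, Subgroup.card_bot] at ha₀
    have h1 : a₀ ≠ 0 := by omega
    have : 1 < p ^ a₀ := Nat.one_lt_pow h1 hp1
    omega
  obtain ⟨⟨g, hg⟩, hg1⟩ := (Subgroup.ne_bot_iff_exists_ne_one).mp hH₀1
  have hg1' : g ≠ 1 := fun h => hg1 (Subtype.ext h)
  have hgE : g ∈ E := hC₀.H_le hg
  obtain ⟨hN, H₁, Λ₁, hC₁⟩ := exists_comp_gen hp hS2 hR hr2 hE hcard hv2 hv1 hvE hgE hg1'
  have hzg : zpowers g ≤ normalizer (Sv v : Set G) := by
    rw [Subgroup.zpowers_le]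
    exact (hvEC.trans (centralizer_le_normalizer_Sv v)) hgE
  have hNS : ⁅Sv v, zpowers g⁆ ≤ Sv v := commutator_le_of_le_normalizer hzg
  have hXS : ⁅Sv v, zpowers g⁆ ⊔ zpowers v ≤ Sv v :=
    sup_le hNS (by rw [Subgroup.zpowers_le]; exact mem_Sv hv2)
  have hvc₁ : ∀ x ∈ ⁅Sv v, zpowers g⁆ ⊔ zpowers v, x * v = v * x := fun x hx => hSvc x (hXS hx)
  have hg₁ : g ∉ H₁ := hC₁.not_mem_of_gen hvc₁ (hvE g hgE) hN
  have h0N := hC₀.comm_of_gen hSvc hNS hg (hvE g hgE) hN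
  have hcomm : ∀ a ∈ Λ₀, ∀ b ∈ Λ₁, a * b = b * a := by
    intro a ha b hb
    exact centralizer_sup_le (h0N a ha) (commute_zpowers (hSvc a (hC₀.L_le ha))) b (hC₁.L_le hb)
  have hint : ∀ z ∈ Λ₀, z ∈ Λ₁ → z = 1 ∨ z = v := by
    intro z hz hz₁
    exact hC₁.fix g hgE hg₁ z hz₁ (hC₀.centr g hg z hz)
  obtain ⟨d₀, hd₀, hd₀H⟩ := hC₀.exists_not_mem
  obtain ⟨x₀, hx₀, y₀, hy₀, hx₀2, hy₀2, hxy₀⟩ := hC₀.pair hSvc hv2 hv1
    (hC₀.noRank3 hE hcard hR hr2) hvE hp2 hd₀ hd₀H (hE.pow d₀ hd₀)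
  obtain ⟨x₁, hx₁, y₁, hy₁, hx₁2, hy₁2, hxy₁⟩ := hC₁.pair hvc₁ hv2 hv1
    (hC₁.noRank3 hE hcard hR hr2) hvE hp2 hgE hg₁ (hE.pow g hgE)
  obtain ⟨hW, hWc⟩ := pair_product hv2 hv1 hcomm hint hC₀.v_mem hC₁.v_mem hx₀ hy₀ hx₁ hy₁ hx₀2 hy₀2
    hxy₀ hx₁2 hy₁2 hxy₁
  -- the kernel `B`
  have hBE : H₀ ⊓ H₁ ≤ E := inf_le_left.trans hC₀.H_le
  have hB : EA p (H₀ ⊓ H₁) := hE.mono hBE
  obtain ⟨b, hBc⟩ := hB.exists_card
  have hcB : r ≤ b + 2 := by
    have h1 := card_inf_ge hC₁.H_le hC₀.H_le hC₁.card_H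
    rw [inf_comm, hBc, ha₀] at h1
    have h2 : p ^ a₀ ≤ p ^ (b + 1) := by rwa [pow_succ]
    have := (Nat.pow_le_pow_iff_right hp1).mp h2
    omega
  have hb1 : 1 ≤ b := by omega
  have hB1 : H₀ ⊓ H₁ ≠ ⊥ := by
    intro he
    rw [he, Subgroup.card_bot] at hBc
    have h1 : b ≠ 0 := by omega
    have : 1 < p ^ b := Nat.one_lt_pow h1 hp1
    omega
  have hc0 : ∀ z ∈ Λ₀, ∀ h ∈ H₀ ⊓ H₁, z * h = h * z := fun z hz h hh =>
    (hC₀.centr h hh.1 z hz).symm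
  have hc1 : ∀ z ∈ Λ₁, ∀ h ∈ H₀ ⊓ H₁, z * h = h * z := fun z hz h hh =>
    (hC₁.centr h hh.2 z hz).symm
  have hWB : zpowers v ⊔ zpowers (x₀ * x₁) ⊔ zpowers (y₀ * y₁) ≤
      centralizer ((H₀ ⊓ H₁ : Subgroup G) : Set G) := by
    refine sup_le (sup_le (zpowers_le_centralizer (hc0 v hC₀.v_mem)) (zpowers_le_centralizer ?_))
      (zpowers_le_centralizer ?_)
    · intro h hh
      have h1 : Commute x₀ h := hc0 x₀ hx₀ h hh
      have h2 : Commute x₁ h := hc1 x₁ hx₁ h hh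
      exact (h1.mul_left h2).eq
    · intro h hh
      have h1 : Commute y₀ h := hc0 y₀ hy₀ h hh
      have h2 : Commute y₁ h := hc1 y₁ hy₁ h hh
      exact (h1.mul_left h2).eq
  have hvW : v ∈ zpowers v ⊔ zpowers (x₀ * x₁) ⊔ zpowers (y₀ * y₁) :=
    Subgroup.mem_sup_left (Subgroup.mem_sup_left (Subgroup.mem_zpowers v))
  obtain ⟨y₁', y₂', f, v', h1, h2, h3, h4, h5, h6, h7, h8, h9, h10, h11, h12, h13, h14⟩ :=
    step_C hp hSp hmax hW hWc hvW hv1 hB hB1 hBc hWB hcB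
  exact step_E hp hS2 hR hW hB hBc hWB hb1 h1 h2 h3 h4 h5 h6 h7 h8 h9 h10 h11 h12 h13 h14

end Cfsg.Agent.Lib.KlingerMason
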